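import Cfsg.Agent.H800.Sp.Base_m3
import Cfsg.Agent.MonsterX.ThOneClass
import Cfsg.Agent.ThType.Main
import Cfsg.Agent.CpAutMSeven.Hex
import Cfsg.Agent.FastGrp
import Cfsg.Agent.Prune
set_option linter.all false
prune_inst 0x7f00000000000000000000000000000000000000000000000000000000000000000000000000000000000000000000000000000000000000000000000000000000000000000000000000000000000000003fffffffffffffffffffffffffffbeffbdffffffff
open scoped Cfsg.Agent.FastGrp

-- part: H800/Sp/Th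
section
/-!
The prime 7 in `Th`: one class of subgroups of order 7, because every element of order 7 commutes with an involution,
the involutions are conjugate, and `7²` does not divide the order of the centralizer of an involution.
-/

set_option autoImplicit false

namespace Cfsg.Agent.H800.Sp.Th

open Subgroup Cfsg.Agent.H800.Sp Cfsg.Agent.H795
open Cfsg.Agent.Th Cfsg.Agent.Th.Gen248 Cfsg.Agent.Th.Hom248 Cfsg.Agent.ThType.SevenBase
  Cfsg.Agent.ThType.Seven

theorem oneClassSub' : OneClassSub 7 Cfsg.Spor.Th := by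
  have hT := Main1700.isTh
  have hfin : Finite Cfsg.Spor.Th := Nat.finite_of_card_ne_zero (by rw [hT.2]; norm_num)
  have h7 : Fact (Nat.Prime 7) := ⟨by norm_num⟩
  refine oneClassSub_of_inv (IndexUpper.gTh 1) ?_ fun x hx => ?_
  · rw [MonsterX.ThOneClass.card_a]
    norm_num
  · obtain ⟨s, hs, hsx⟩ := exists_involution_Th hT hx
    obtain ⟨g, hg⟩ := isConj_iff.1 (MonsterX.ThOneClass.oneClass s _ hs MonsterX.ThOneClass.orderOf_a)
    refine ⟨g, ?_⟩
    rw [← hg]
    calc g * s * g⁻¹ * (g * x * g⁻¹) = g * (s * x) * g⁻¹ := by group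
      _ = g * (x * s) * g⁻¹ := by rw [hsx]
      _ = g * x * g⁻¹ * (g * s * g⁻¹) := by group

/-- **the row `(Th, 7)`** -/
theorem oneClassSub {G : Type*} [Group G] (h : Cfsg.Spor.IsoTh G) : OneClassSub 7 G :=
  OneClassSub.of_mulEquiv h.some.symm oneClassSub'

/-- **the row `(Th, 7)`** -/
theorem abIrr {G : Type*} [Group G] (h : Cfsg.Spor.IsoTh G) : AbIrr 7 G := by
  have hT := Main1700.isTh
  have hfin : Finite Cfsg.Spor.Th := Nat.finite_of_card_ne_zero (by rw [hT.2]; norm_num)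
  have hfin' : Finite G := Finite.of_equiv _ h.some.symm.toEquiv
  have h7 : Fact (Nat.Prime 7) := ⟨by norm_num⟩
  exact (oneClassSub h).abIrr

theorem rel {w : Wd} (hw : w ∈ ws) : W w = 1 := by
  apply PresentedGroup.mk_eq_one_iff.2
  apply Subgroup.subset_normalClosure
  right
  rw [Set.mem_ofPred_eq, extra_eq]
  exact List.mem_map_of_mem hw

theorem hasReal {G : Type*} [Group G] (h : Cfsg.Spor.IsoTh G) : HasReal 7 G := by
  have h7 : Fact (Nat.Prime 7) := ⟨by norm_num⟩
  have rd : W w4 = 1 := rel (by simp [ws])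
  have rs : W w15 = 1 := rel (by simp [ws])
  have rsd : W w19 = 1 := rel (by simp [ws])
  have rd' : W (.g .d) ^ 2 = 1 := by rw [← rd, ← W_pow]; rfl
  have rs' : W (.g .s) ^ 7 = 1 := by rw [← rs, ← W_pow]; rfl
  have rsd' : (W (.g .s) * W (.g .d)) ^ 2 = 1 := by rw [← rsd, ← W_mul, ← W_pow]; rfl
  refine HasReal.of_mulEquiv h.some.symm ⟨W (.g .s), W (.g .d), orderOf_eq_prime rs' ?_, ?_⟩
  · rw [← W_one]; exact W_ne (evG_ne ck_s)
  · rw [pow_two] at rd' rsd'
    rw [inv_eq_of_mul_eq_one_left rd']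
    refine eq_inv_of_mul_eq_one_right ?_
    rw [← rsd']
    group

end Cfsg.Agent.H800.Sp.Th
end

-- part: H800/Sp/B
section
/-!
The prime 7 in `B`: `Th` embeds into `2.B`, hence into `B`, with index prime to 7.
-/

set_option autoImplicit false

namespace Cfsg.Agent.H800.Sp.B

open Subgroup Cfsg Cfsg.Agent.H800.Sp Cfsg.Agent.H795 Cfsg.Agent.LThree
open Cfsg.Agent.LThreeMB (fr XX KChart.Cent KChart.pi KChart.chart)
open Cfsg.Agent.MonsterX Cfsg.Agent.MonsterX.Model Cfsg.Agent.MonsterX.MainSimple Cfsg.Agent.MonsterX.MainPack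
open Cfsg.Agent.MonsterX.MainBasic Cfsg.Agent.MonsterP Cfsg.Agent.MonsterN
open Cfsg.Agent.MonsterU Cfsg.Agent.MSevenT

theorem conjCent {G : Type*} [Group G] (a g : G) :
    Nat.card ↥(centralizer ({g * a * g⁻¹} : Set G)) = Nat.card ↥(centralizer ({a} : Set G)) := by
  refine Nat.card_congr
    { toFun := fun c => ⟨g⁻¹ * c * g, mem_centralizer_singleton_iff.2 ?_⟩
      invFun := fun c => ⟨g * c * g⁻¹, mem_centralizer_singleton_iff.2 ?_⟩
      left_inv := fun c => Subtype.ext (by show g * (g⁻¹ * (c : G) * g) * g⁻¹ = c; group)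
      right_inv := fun c => Subtype.ext (by show g⁻¹ * (g * (c : G) * g⁻¹) * g = c; group) }
  · have h1 := mem_centralizer_singleton_iff.1 c.2
    calc (g⁻¹ * (c : G) * g) * a = g⁻¹ * ((c : G) * (g * a * g⁻¹)) * g := by group
      _ = g⁻¹ * ((g * a * g⁻¹) * c) * g := by rw [h1]
      _ = a * (g⁻¹ * (c : G) * g) := by group
  · have h1 := mem_centralizer_singleton_iff.1 c.2
    calc (g * (c : G) * g⁻¹) * (g * a * g⁻¹) = g * ((c : G) * a) * g⁻¹ := by group
      _ = g * (a * c) * g⁻¹ := by rw [h1]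
      _ = (g * a * g⁻¹) * (g * (c : G) * g⁻¹) := by group

/-- `Th` is a subgroup of the centralizer of an involution conjugate to `t` -/
theorem exists_th : ∃ k : ↥InstData.M.G, ∃ T : Subgroup ↥InstData.M.G,
    T ≤ centralizer ({k * Row.t * k⁻¹} : Set ↥InstData.M.G) ∧ Nonempty (T ≃* Spor.Th) := by
  have := MFive.Row.finite_model
  have := MFive.Row.simple_model
  have h := KChart.chart KDone.lft MFive.Row.hc
  obtain ⟨x₃, t, hzx, T, ⟨e⟩⟩ := exists_TT h
  obtain ⟨f⟩ := T.exists_equiv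
  have htt : t * t = 1 := by rw [← pow_two, ← T.two, pow_orderOf_eq_one]
  have ht1 : t ≠ 1 := fun h1 => by have := T.two; rw [h1, orderOf_one] at this; omega
  have hcardT : Nat.card ↥(centralizer ({x₃} : Set ↥InstData.M.G) ⊓ centralizer ({t} : Set ↥InstData.M.G)) =
      90745943887872000 := by
    rw [Nat.card_congr (f.trans e).toEquiv, card_th]
  have htz : ¬ ∃ g, g * KDone.K.z * g⁻¹ = t := by
    rintro ⟨g, hg⟩
    have h1 : Nat.card ↥(centralizer ({x₃} : Set ↥InstData.M.G) ⊓ centralizer ({t} : Set ↥InstData.M.G)) ∣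
        Nat.card ↥(centralizer ({t} : Set ↥InstData.M.G)) := Subgroup.card_dvd_of_le inf_le_right
    rw [hcardT, ← hg, conjCent, AmalElts.card_centralizer h] at h1
    norm_num at h1
  obtain ⟨k, hk⟩ : ∃ k, k * Row.t * k⁻¹ = t := (MFive.Row.two t htt ht1).resolve_left htz
  exact ⟨k, centralizer ({x₃} : Set ↥InstData.M.G) ⊓ centralizer ({t} : Set ↥InstData.M.G),
    by rw [hk]; exact inf_le_right, ⟨f.trans e⟩⟩

/-- `Th ≤ 2.B` -/
theorem exists_th' : ∃ T : Subgroup ↥InstData.M.G,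
    T ≤ centralizer ({Row.t} : Set ↥InstData.M.G) ∧ Nonempty (T ≃* Spor.Th) := by
  obtain ⟨k, T, hT, ⟨e⟩⟩ := exists_th
  refine ⟨T.map (MulAut.conj k⁻¹).toMonoidHom, ?_,
    ⟨(Subgroup.equivMapOfInjective T _ (MulAut.conj k⁻¹).injective).symm.trans e⟩⟩
  rintro _ ⟨y, hy, rfl⟩
  have h1 := mem_centralizer_singleton_iff.1 (hT hy)
  rw [mem_centralizer_singleton_iff]
  show k⁻¹ * y * k⁻¹⁻¹ * Row.t = Row.t * (k⁻¹ * y * k⁻¹⁻¹)
  calc k⁻¹ * y * k⁻¹⁻¹ * Row.t = k⁻¹ * (y * (k * Row.t * k⁻¹)) * k := by group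
    _ = k⁻¹ * ((k * Row.t * k⁻¹) * y) * k := by rw [h1]
    _ = Row.t * (k⁻¹ * y * k⁻¹⁻¹) := by group

/-- `Th ≤ B` -/
theorem exists_th_B : ∃ T : Subgroup Spor.BabyMonster, Spor.IsoTh T := by
  obtain ⟨T, hT, ⟨e⟩⟩ := exists_th'
  obtain ⟨⟨h1, -, ⟨f⟩⟩, -⟩ := ModelB.fieldsKS LitFin.all KDone.lnk KDone.lft (NodesGrp.prel LitFin.H)
    (NodesNe.ne LitFin.H) LitFin.conj_ten Cfsg.Agent.S1704.result KDone.lnk.x₀_mem
  have h0 : Row.t = KDone.K.ι KLinkInst.x₀ := Subtype.ext KDone.lnk.t₀_eq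
  rw [← h0] at h1 f
  have hs : IsSimpleGroup Spor.Th := simple_th
  let π : T →* Spor.BabyMonster :=
    (f.toMonoidHom.comp (QuotientGroup.mk' (center ↥(centralizer ({Row.t} : Set ↥InstData.M.G))))).comp
      (Subgroup.inclusion hT)
  have hπ : Function.Injective π := by
    rw [← MonoidHom.ker_eq_bot_iff]
    have hsT : IsSimpleGroup T := (MulEquiv.isSimpleGroup_congr e).2 hs
    refine ((inferInstance : π.ker.Normal).eq_bot_or_eq_top).resolve_right fun htop => ?_
    have h2 : ∀ y : T, Subgroup.inclusion hT y ∈ center ↥(centralizer ({Row.t} : Set ↥InstData.M.G)) := by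
      intro y
      have h3 : y ∈ π.ker := by rw [htop]; trivial
      have h4 : f (QuotientGroup.mk (Subgroup.inclusion hT y)) = 1 := h3
      rw [map_eq_one_iff f f.injective] at h4
      exact (QuotientGroup.eq_one_iff _).1 h4
    have hfin : Finite (center ↥(centralizer ({Row.t} : Set ↥InstData.M.G))) :=
      Nat.finite_of_card_ne_zero (by rw [h1]; norm_num)
    have h5 : Nat.card T ≤ 2 := by
      rw [← h1]
      exact Nat.card_le_card_of_injective
        (fun y : T => (⟨Subgroup.inclusion hT y, h2 y⟩ : center ↥(centralizer ({Row.t} : Set ↥InstData.M.G))))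
        fun a b hab => Subgroup.inclusion_injective hT (congrArg Subtype.val hab)
    rw [Nat.card_congr e.toEquiv, card_th] at h5
    norm_num at h5
  exact ⟨π.range, ⟨(MonoidHom.ofInjective hπ).symm.trans e⟩⟩

theorem index_th {T : Subgroup Spor.BabyMonster} (h : Spor.IsoTh T) : ¬ 7 ∣ T.index := by
  intro h7
  have h1 := T.card_mul_index
  rw [Nat.card_congr h.some.toEquiv, card_th, Cfsg.Agent.S1704.result.2] at h1
  obtain ⟨m, hm⟩ := h7
  rw [hm] at h1
  have h2 : 90745943887872000 * 7 ∣ 4154781481226426191177580544000000 := ⟨m, by rw [← h1]; ring⟩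
  norm_num at h2

/-- **the row `(B, 7)`** -/
theorem abIrr {G : Type*} [Group G] (h : Cfsg.Spor.IsoB G) : AbIrr 7 G := by
  have hfin : Finite Spor.BabyMonster :=
    Nat.finite_of_card_ne_zero (by rw [Cfsg.Agent.S1704.result.2]; norm_num)
  have h7 : Fact (Nat.Prime 7) := ⟨by norm_num⟩
  obtain ⟨T, hT⟩ := exists_th_B
  exact AbIrr.of_mulEquiv h.some.symm (AbIrr.of_subgroup (index_th hT) (Sp.Th.abIrr hT))

theorem hasReal {G : Type*} [Group G] (h : Cfsg.Spor.IsoB G) : HasReal 7 G := by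
  obtain ⟨T, hT⟩ := exists_th_B
  exact HasReal.of_mulEquiv h.some.symm (HasReal.of_subgroup (Sp.Th.hasReal hT))

end Cfsg.Agent.H800.Sp.B
end
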