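import Cfsg.Agent.H800.Sp.Base_m3
import Cfsg.Agent.H573.PCent
import Cfsg.Agent.FastGrp
import Cfsg.Agent.Prune
set_option linter.all false
prune_inst 0x7f00000000000000000000000000000000000000000000000000000000000000000000000000000000000000000000000000000000000000000000000000000000000000000000000000000000000000003fffffffffffffffffffffffffffbeffbdffffffff
open scoped Cfsg.Agent.FastGrp

/-!
# Groups with nonabelian Sylow `p`-subgroups: general criteria for `NotAb p G`
-/

set_option autoImplicit false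

universe u v

namespace Cfsg.Agent.H800.Sp

open Subgroup Cfsg.Agent.H795
open scoped commutatorElement

section

variable {G : Type u} [Group G] [Finite G] {p : ℕ} [hp : Fact p.Prime]

/-- a nonabelian `p`-subgroup, without elements -/
theorem notAb_of_isPGroup (P : Subgroup G) (hP : IsPGroup p P) (hn : ¬ IsMulCommutative P) : NotAb p G := by
  by_contra hcon
  apply hn
  refine isMulCommutative_of fun a ha b hb => ?_
  by_contra hab
  exact hcon (notAb_of_pair P hP ha hb hab)

/-- `NotAb` goes up along injections. -/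
theorem NotAb.of_injective {H : Type v} [Group H] [Finite H] (h : NotAb p H) (f : H →* G)
    (hf : Function.Injective f) : NotAb p G := by
  obtain ⟨P⟩ : Nonempty (Sylow p H) := inferInstance
  refine notAb_of_isPGroup ((P : Subgroup H).map f) (P.2.map f) fun hc => h P ?_
  refine isMulCommutative_of fun a ha b hb => hf ?_
  rw [map_mul, map_mul]
  exact comm_of hc (mem_map_of_mem f ha) (mem_map_of_mem f hb)

theorem NotAb.of_sub {H : Subgroup G} (h : NotAb p ↥H) : NotAb p G := h.of_injective H.subtype H.subtype_injective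

omit [Finite G] in
/-- `NotAb` goes up along surjections. -/
theorem NotAb.of_surjective {H : Type v} [Group H] [Finite H] (h : NotAb p H) [Finite G] (f : G →* H)
    (hf : Function.Surjective f) : NotAb p G := by
  intro S hS
  refine h (S.mapSurjective hf) (isMulCommutative_of ?_)
  rintro _ ⟨a, ha, rfl⟩ _ ⟨b, hb, rfl⟩
  rw [← map_mul, ← map_mul, comm_of hS ha hb]

/-- a section -/
theorem NotAb.of_section {H : Type v} [Group H] [Finite H] (h : NotAb p H) {C : Subgroup G} (f : ↥C →* H)
    (hf : Function.Surjective f) : NotAb p G := (h.of_surjective f hf).of_sub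

/-- from `¬ PCent` -/
theorem notAb_of_not_pcent (h : ¬ Cfsg.Agent.H573.PCent p G) : NotAb p G := by
  intro P hP
  apply h
  refine Cfsg.Agent.H573.PCent.of_sylow fun x hx => ?_
  obtain ⟨k, hk⟩ := hx
  obtain ⟨Q, hQ⟩ := (IsPGroup.of_card (p := p) (n := k) (G := ↥(Subgroup.zpowers x))
      (by rw [Nat.card_zpowers, hk])).exists_le_sylow
  obtain ⟨g, hg⟩ := MulAction.exists_smul_eq G Q P
  refine ⟨Q, fun y hy => ?_⟩
  have h1 : ∀ z ∈ (Q : Subgroup G), g * z * g⁻¹ ∈ (P : Subgroup G) := by
    intro z hz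
    rw [← hg]
    exact Subgroup.smul_mem_pointwise_smul z (MulAut.conj g) (Q : Subgroup G) hz
  have h2 := comm_of hP (h1 y hy) (h1 x (hQ (mem_zpowers x)))
  calc y * x = g⁻¹ * ((g * y * g⁻¹) * (g * x * g⁻¹)) * g := by group
    _ = g⁻¹ * ((g * x * g⁻¹) * (g * y * g⁻¹)) * g := by rw [h2]
    _ = x * y := by group

/-- an extraspecial pair: `a`, `b` of order `p` and `[a, b] ≠ 1` central in `⟨a, b⟩` -/
theorem notAb_of_heis {x y z : G} (hx : x ^ p = 1) (hy : y ^ p = 1) (hz : z ^ p = 1) (hxz : x * z = z * x)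
    (hyz : y * z = z * y) (h : x * y = y * x * z) (h1 : z ≠ 1) : NotAb p G := by
  have hpz : ∀ {g : G}, g ^ p = 1 → IsPGroup p (zpowers g) := by
    rintro g hg ⟨_, m, rfl⟩
    refine ⟨1, Subtype.ext ?_⟩
    show (g ^ m) ^ p ^ 1 = 1
    rw [pow_one, ← zpow_natCast, ← zpow_mul, mul_comm, zpow_mul, zpow_natCast, hg, one_zpow]
  have hnorm : ∀ {g : G} {K : Subgroup G}, (∀ t ∈ K, g * t * g⁻¹ ∈ K) → (∀ t ∈ K, g⁻¹ * t * g ∈ K) →
      g ∈ normalizer (K : Set G) := by
    intro g K h1 h2
    rw [mem_set_normalizer_iff]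
    intro t
    refine ⟨h1 t, fun ht => ?_⟩
    have := h2 _ ht
    rwa [show g⁻¹ * (g * t * g⁻¹) * g = t by group] at this
  have e1 : IsPGroup p (zpowers y ⊔ zpowers z : Subgroup G) := by
    refine IsPGroup.to_sup_of_normal_right' (hpz hy) (hpz hz) ?_
    rw [zpowers_le]
    refine hnorm ?_ ?_
    · rintro _ ⟨k, rfl⟩
      refine ⟨k, ?_⟩
      show z ^ k = y * z ^ k * y⁻¹
      rw [((show Commute y z from hyz).zpow_right k).eq, mul_inv_cancel_right]
    · rintro _ ⟨k, rfl⟩
      refine ⟨k, ?_⟩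
      show z ^ k = y⁻¹ * z ^ k * y
      rw [mul_assoc, ← ((show Commute y z from hyz).zpow_right k).eq, inv_mul_cancel_left]
  have e2 : IsPGroup p (zpowers x ⊔ (zpowers y ⊔ zpowers z) : Subgroup G) := by
    refine IsPGroup.to_sup_of_normal_right' (hpz hx) e1 ?_
    rw [zpowers_le]
    have k1 : (zpowers y ⊔ zpowers z : Subgroup G) ≤ (zpowers y ⊔ zpowers z : Subgroup G).comap
        (MulAut.conj x).toMonoidHom := by
      rw [sup_le_iff, zpowers_le, zpowers_le, mem_comap, mem_comap]
      constructor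
      · show x * y * x⁻¹ ∈ _
        rw [h, mul_assoc, mul_assoc, ← mul_assoc x z, hxz, mul_assoc, mul_inv_cancel, mul_one]
        exact mul_mem (mem_sup_left (mem_zpowers y)) (mem_sup_right (mem_zpowers z))
      · show x * z * x⁻¹ ∈ _
        rw [hxz, mul_inv_cancel_right]
        exact mem_sup_right (mem_zpowers z)
    have k2 : (zpowers y ⊔ zpowers z : Subgroup G).map (MulAut.conj x).toMonoidHom = zpowers y ⊔ zpowers z := by
      refine Subgroup.eq_of_le_of_card_ge ?_ ?_
      · rintro _ ⟨g, hg, rfl⟩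
        exact k1 hg
      · rw [Subgroup.card_map_of_injective (MulAut.conj x).injective]
    refine hnorm (fun t ht => k1 ht) fun t ht => ?_
    rw [← k2] at ht
    obtain ⟨s, hs, rfl⟩ := ht
    have e : x⁻¹ * ((MulAut.conj x).toMonoidHom s) * x = s := by
      show x⁻¹ * (x * s * x⁻¹) * x = s
      group
    rw [e]
    exact hs
  refine notAb_of_pair _ e2 (mem_sup_left (mem_zpowers x)) (mem_sup_right (mem_sup_left (mem_zpowers y))) fun hc => h1 ?_
  rw [h] at hc
  have := mul_left_cancel (hc.trans (mul_one (y * x)).symm)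
  exact this

/-- an extraspecial pair, with commutators -/
theorem notAb_of_extra {x y : G} (hx : x ^ p = 1) (hy : y ^ p = 1) (hcx : ⁅x, y⁆ * x = x * ⁅x, y⁆)
    (hcy : ⁅x, y⁆ * y = y * ⁅x, y⁆) (h1 : ⁅x, y⁆ ≠ 1) : NotAb p G := by
  have e : x * y = ⁅x, y⁆ * y * x := by rw [commutatorElement_def]; group
  have h2 : (⁅x, y⁆ * y) ^ p = 1 := by
    have h3 : ⁅x, y⁆ * y = x * y * x⁻¹ := by rw [commutatorElement_def]; group
    rw [h3, conj_pow, hy, mul_one, mul_inv_cancel]
  have hz : ⁅x, y⁆ ^ p = 1 := by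
    rw [(show Commute ⁅x, y⁆ y from hcy).mul_pow, hy, mul_one] at h2
    exact h2
  refine notAb_of_heis hx hy hz hcx.symm hcy.symm ?_ h1
  rw [e, mul_assoc, mul_assoc, ← hcx, ← mul_assoc, hcy, mul_assoc]

end

end Cfsg.Agent.H800.Sp
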