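import Cfsg.Agent.H800.Sp.Base_m3
import Cfsg.Agent.KFacts.HS.Sheet2_m3
import Cfsg.Agent.H800.Sp.Suz
import Cfsg.Agent.KFacts.He.Words
import Cfsg.Agent.KFacts.He.TwoA_m3
import Cfsg.Agent.Held.HeldCardEq_m3
import Cfsg.Agent.H800.Sp.Refl
import Cfsg.Agent.BpSpor.FiTThFive
import Cfsg.Agent.H841.Phi_m3
import Cfsg.Agent.BpSevenCo.Conj
import Cfsg.Agent.CpAutMSeven.Quo_m3
import Cfsg.Agent.FastGrp
import Cfsg.Agent.Prune
set_option linter.all false
prune_inst 0x7f00000000000000000000000000000000000000000000000000000000000000000000000000000000000000000000000000000000000000000000000000000000000000000000000000000000000000003fffffffffffffffffffffffffffbeffbdffffffff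
open scoped Cfsg.Agent.FastGrp

-- part: H800/Sp/AltSix
section
/-!
`AbIrr 3 A₆`, and real elements of order 3 in `A₆`.
-/

set_option autoImplicit false

namespace Cfsg.Agent.H800.Sp.AltSix

open Cfsg.Agent.H800.Sp Cfsg.Agent.H795 Equiv

instance instFactPrimeThree : Fact (Nat.Prime 3) := ⟨Nat.prime_three⟩

/-- the 3-cycle `(0 1 2)` -/
def a : Perm (Fin 6) := swap (0 : Fin 6) 1 * swap (1 : Fin 6) 2

/-- `(0 1 2)(3 4 5)` -/
def b : Perm (Fin 6) := swap (0 : Fin 6) 1 * swap (1 : Fin 6) 2 * (swap (3 : Fin 6) 4 * swap (4 : Fin 6) 5)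

theorem a_mem : a ∈ alternatingGroup (Fin 6) := by
  rw [Perm.mem_alternatingGroup]; decide

theorem b_mem : b ∈ alternatingGroup (Fin 6) := by
  rw [Perm.mem_alternatingGroup]; decide

theorem a_type : a.cycleType = Multiset.replicate 1 3 := by decide

theorem b_type : b.cycleType = Multiset.replicate 2 3 := by decide

theorem a_order : orderOf a = 3 := orderOf_eq_prime (by decide) (by decide)

theorem b_order : orderOf b = 3 := orderOf_eq_prime (by decide) (by decide)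

/-- conjugacy in `A₆` from conjugacy in `S₆` and an odd element of the centralizer -/
theorem conj_alt {x y : alternatingGroup (Fin 6)} (s : Perm (Fin 6)) (hs : Perm.sign s = -1)
    (hsy : s * (y : Perm (Fin 6)) = y * s) (h : IsConj (x : Perm (Fin 6)) y) :
    ∃ g : alternatingGroup (Fin 6), g * x * g⁻¹ = y := by
  obtain ⟨c, hc⟩ := isConj_iff.1 h
  rcases Int.units_eq_one_or (Perm.sign c) with h1 | h1
  · exact ⟨⟨c, Perm.mem_alternatingGroup.2 h1⟩, Subtype.ext hc⟩
  · refine ⟨⟨s * c, Perm.mem_alternatingGroup.2 (by rw [map_mul, hs, h1]; rfl)⟩, Subtype.ext ?_⟩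
    show s * c * x * (s * c)⁻¹ = (y : Perm (Fin 6))
    have e : s * c * x * (s * c)⁻¹ = s * (c * x * c⁻¹) * s⁻¹ := by group
    rw [e, hc, hsy]
    group

/-- two classes of elements of order 3 -/
theorem conj_ab (x : alternatingGroup (Fin 6)) (hx : orderOf x = 3) :
    (∃ g : alternatingGroup (Fin 6), g * x * g⁻¹ = ⟨a, a_mem⟩) ∨
      (∃ g : alternatingGroup (Fin 6), g * x * g⁻¹ = ⟨b, b_mem⟩) := by
  have hx' : orderOf (x : Perm (Fin 6)) = 3 := by rw [Subgroup.orderOf_coe, hx]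
  obtain ⟨n, hn⟩ := Perm.cycleType_prime_order (σ := (x : Perm (Fin 6))) (by rw [hx']; exact Nat.prime_three)
  rw [hx'] at hn
  have h1 : (x : Perm (Fin 6)).cycleType.sum ≤ 6 := by
    have := (x : Perm (Fin 6)).sum_cycleType
    rw [this]
    exact (Finset.card_le_univ _).trans (by simp)
  rw [hn, Multiset.sum_replicate, smul_eq_mul] at h1
  have h2 : n = 0 ∨ n = 1 := by omega
  rcases h2 with rfl | rfl
  · left
    refine conj_alt (swap (3 : Fin 6) 4) (by decide) (by decide) ?_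
    rw [Perm.isConj_iff_cycleType_eq, hn]
    exact a_type.symm
  · right
    refine conj_alt (swap (0 : Fin 6) 3 * swap (1 : Fin 6) 4 * swap (2 : Fin 6) 5) (by decide) (by decide) ?_
    rw [Perm.isConj_iff_cycleType_eq, hn]
    exact b_type.symm

theorem abIrr : AbIrr 3 (alternatingGroup (Fin 6)) := by
  refine abIrr_of_two (a := ⟨a, a_mem⟩) (a' := ⟨b, b_mem⟩) (by rw [Subgroup.orderOf_mk, a_order])
    (by rw [Subgroup.orderOf_mk, b_order]) fun x hx => ?_
  rcases conj_ab x hx with ⟨g, hg⟩ | ⟨g, hg⟩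
  · exact Or.inl ⟨g, by rw [hg]; exact Subgroup.mem_zpowers _⟩
  · exact Or.inr ⟨g, by rw [hg]; exact Subgroup.mem_zpowers _⟩

end Cfsg.Agent.H800.Sp.AltSix
end

-- part: H800/Sp/HS
section
/-!
The prime 3 in the Higman–Sims group: `A₆` contains a Sylow 3-subgroup.
-/

set_option autoImplicit false

namespace Cfsg.Agent.H800.Sp.HS

open Cfsg.Agent.H800.Sp Cfsg.Agent.H795 Cfsg.Agent.KFacts.HS Cfsg.Agent.KFacts.HS.DFour

instance instFactPrimeThree : Fact (Nat.Prime 3) := ⟨Nat.prime_three⟩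

theorem abIrr {G : Type*} [Group G] [Finite G] (h : Cfsg.Spor.IsoHS G) : AbIrr 3 G := by
  obtain ⟨D⟩ := exists_mod h
  refine AbIrr.of_subgroup (H := LA D) ?_ (AbIrr.of_mulEquiv (MonoidHom.ofInjective (rho_inj D)) AltSix.abIrr)
  have h1 := Subgroup.card_mul_index (LA D)
  rw [card_LA, Cfsg.Agent.KFacts.HS.card h] at h1
  have h2 : (LA D).index = 123200 := by omega
  rw [h2]
  norm_num

end Cfsg.Agent.H800.Sp.HS
end

-- part: H800/Sp/He
section
/-!
The prime 5 in the Held group: `a = (cd)²` of order 5, `n a n⁻¹ = b` commutes with `a`, `n b n⁻¹ = (a b)⁻¹`.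
-/

set_option autoImplicit false
set_option maxRecDepth 100000

namespace Cfsg.Agent.H800.Sp.He

open Cfsg.Spor Cfsg.Spor.He Cfsg.Agent.SporadicB.HePerm Cfsg.Agent.HeldHe.Model
open Cfsg.Agent.KFacts.He.Words Cfsg.Agent.KFacts.He.Lv
open Cfsg.Agent.H800.Sp Cfsg.Agent.H795

/-- apply the letters of `r` to a point, the first letter acts first -/
noncomputable def wk (r : List Gen) : ℕ → ℕ :=
  List.rec (motive := fun _ => ℕ → ℕ) (fun i => i)
    (fun x _ ih i => Nat.rec (motive := fun _ => ℕ) (ih 0) (fun j _ => ih (Nat.succ j)) (look (tab x) i)) r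

theorem wk_cons (x : Gen) (r : List Gen) (i : ℕ) : wk (x :: r) i = wk r (look (tab x) i) := by
  show Nat.rec (motive := fun _ => ℕ) (wk r 0) (fun j _ => wk r (Nat.succ j)) (look (tab x) i) = _
  rcases look (tab x) i with _ | j <;> rfl

theorem wk_append (r s : List Gen) (i : ℕ) : wk (r ++ s) i = wk s (wk r i) := by
  induction r generalizing i with
  | nil => rfl
  | cons x r ih => rw [List.cons_append, wk_cons, ih, wk_cons]

theorem wk_reverse (r : List Gen) (i : ℕ) : wk r.reverse i = act r i := by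
  induction r with
  | nil => rfl
  | cons x r ih => rw [List.reverse_cons, wk_append, ih, wk_cons, act_cons]; rfl

/-- two words have the same value: check on the base points -/
noncomputable def eqG (u v : List Gen) : Bool :=
  Nat.beq (wk u.reverse 0) (wk v.reverse 0) && (Nat.beq (wk u.reverse 1) (wk v.reverse 1) &&
    (Nat.beq (wk u.reverse 32) (wk v.reverse 32) && Nat.beq (wk u.reverse 8) (wk v.reverse 8)))

theorem geq {u v : List Gen} (h : eqG u v = true) : wd u = wd v := by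
  unfold eqG at h
  simp only [Bool.and_eq_true, Nat.beq_eq, wk_reverse] at h
  obtain ⟨h0, h1, h2, h3⟩ := h
  refine eq_of_base ?_ ?_ ?_ ?_ <;> apply Fin.ext <;> rw [phi_wd_apply, phi_wd_apply]
  · exact h0
  · exact h1
  · exact h2
  · exact h3

/-- the word of `a` -/
def X : List Gen := [.c, .d, .c, .d]

/-- the word of `n` -/
def W : List Gen := [
  .a, .d, .a, .g, .b, .d, .e, .b, .c, .f, .a, .b, .d, .e, .c, .d, .f, .g, .d, .e, .c, .f, .d, .f, .d, .b, .e,
  .b, .g, .c, .f, .b, .g, .f, .a, .d, .g, .e, .b, .e, .b, .c, .f, .g, .e, .f, .f, .g, .e, .a, .g, .f, .d, .f,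
  .b, .e, .a, .f, .g, .f, .b, .a, .b, .f, .a, .d, .f, .g, .f, .c, .e, .b, .e, .a, .b, .f, .b, .d, .e, .g, .d,
  .c, .f, .e, .g, .f, .e, .g, .c, .b, .c, .g, .d, .e, .b, .d, .c, .f, .a, .e, .c, .b, .d, .b, .e, .g, .f, .c,
  .d, .c, .d, .f, .g, .e, .b, .d, .b, .c, .e, .a, .f, .c, .d, .b, .e, .d, .g, .c, .b, .c, .g, .e, .f, .g, .e,
  .f, .c, .d, .g, .e, .d, .b, .f, .b, .a, .e, .b, .e, .c, .f, .g, .f, .d, .a, .f, .b, .a, .b, .f, .g, .f, .a,
  .e, .b, .f, .d, .f, .g, .a, .e, .g, .f]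

theorem chk1 : eqG (X ++ (X ++ (X ++ (X ++ X)))) [] = true := by decide +kernel

theorem chk2 : eqG (W ++ W.reverse) [] = true := by decide +kernel

theorem chk3 : eqG (X ++ (W ++ (X ++ W.reverse))) (W ++ (X ++ (W.reverse ++ X))) = true := by decide +kernel

theorem chk4 : eqG (X ++ (W ++ (X ++ (W ++ (X ++ W))))) (W ++ (W ++ W)) = true := by decide +kernel

theorem chk5 : Nat.beq (wk X.reverse 1) 1 = false := by decide +kernel

theorem a_pow : wd X ^ 5 = 1 := by
  have h := geq chk1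
  simp only [wd_append, wd_nil] at h
  rw [← h]
  simp only [pow_succ, pow_zero, one_mul, mul_assoc]

theorem a_ne : wd X ≠ 1 := by
  intro h
  have h1 := phi_wd_apply X 1
  rw [h, map_one phi, ← wk_reverse] at h1
  have h2 := chk5
  rw [show wk X.reverse 1 = 1 from h1.symm] at h2
  exact absurd h2 (by decide)

theorem hirr : ∀ k : ZMod 5, k ^ 2 + k + 1 ≠ 0 := by decide

theorem abIrr' : AbIrr 5 Cfsg.Spor.He := by
  have h5 : Fact (Nat.Prime 5) := ⟨Nat.prime_five⟩
  have hc : Nat.card Cfsg.Spor.He = 4030387200 := Cfsg.Agent.KFacts.He.Cent.card_He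
  have hfin : Finite Cfsg.Spor.He := Nat.finite_of_card_ne_zero (by rw [hc]; norm_num)
  have hW : (wd W)⁻¹ = wd W.reverse := by
    have h := geq chk2
    rw [wd_append, wd_nil] at h
    exact inv_eq_of_mul_eq_one_right h
  refine abIrr_of_rot_three (a := wd X) (n := wd W) (by rw [hc]; norm_num) (orderOf_eq_prime a_pow a_ne)
    hirr ?_ ?_
  · have h := geq chk3
    simp only [wd_append] at h
    rw [hW]
    simp only [mul_assoc]
    exact h
  · have h := geq chk4
    simp only [wd_append] at h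
    simp only [mul_assoc]
    exact h

/-- **the row `(He, 5)`** -/
theorem abIrr {G : Type*} [Group G] (h : Cfsg.Spor.IsoHe G) : AbIrr 5 G :=
  AbIrr.of_mulEquiv h.some.symm abIrr'

end Cfsg.Agent.H800.Sp.He
end

-- part: H800/Sp/FiTTh
section
/-!
The prime 5 in `Fi23`: `S₇ ≤ C(y)`, `y` of order 5.
-/

set_option autoImplicit false

namespace Cfsg.Agent.H800.Sp.FiTTh

open Subgroup Cfsg Cfsg.Agent.LThreeFi23 Cfsg.Agent.BpSpor.Fi23 Cfsg.Agent.BpSpor.Fi23.Chk
open Cfsg.Agent.CpAutFiSeven (Tri)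
open Cfsg.Agent.H800.Sp Cfsg.Agent.H795

theorem sq (i j : Fin 7) : t0 i j * t0 i j = 1 := T_sq (chkLt _ (chkIx i j).1)

theorem inv (i j : Fin 7) : (t0 i j)⁻¹ = t0 i j := inv_eq_of_mul_eq_one_left (sq i j)

/-- the four generators -/
noncomputable def r (i : Fin 4) : Spor.Fi23 := t0 (Fin.castLE (by norm_num) i) (Fin.castLE (by norm_num) i.succ)

theorem ne (i : Fin 4) : (Fin.castLE (by norm_num) i : Fin 7) ≠ (Fin.castLE (by norm_num) i.succ : Fin 7) := by
  revert i
  decide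

theorem refl0 : Refl 5 (elw y5) := by
  refine refl_of_path r (fun i => tri0.comm _ _ (ne i)) (fun i => sq _ _) ?_ ?_ ?_
  · intro i j hij
    have h := tri0.conj _ _ _ _ (ne i) (ne j)
    have h1 : ∀ i j : Fin 4, i.val + 1 < j.val →
        (Equiv.swap (Fin.castLE (by norm_num) i : Fin 7) (Fin.castLE (by norm_num) i.succ) (Fin.castLE (by norm_num) j)
          = Fin.castLE (by norm_num) j) ∧
        (Equiv.swap (Fin.castLE (by norm_num) i : Fin 7) (Fin.castLE (by norm_num) i.succ) (Fin.castLE (by norm_num) j.succ)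
          = Fin.castLE (by norm_num) j.succ) := by decide
    rw [(h1 i j hij).1, (h1 i j hij).2] at h
    exact mul_inv_eq_iff_eq_mul.1 h
  · intro i j hij
    have h := tri0.conj _ _ _ _ (ne i) (ne j)
    have h' := tri0.conj _ _ _ _ (ne j) (ne i)
    rw [inv] at h h'
    refine h.trans (Eq.trans ?_ h'.symm)
    have h1 : ∀ i j : Fin 4, i.val + 1 = j.val →
        (Equiv.swap (Fin.castLE (by norm_num) i : Fin 7) (Fin.castLE (by norm_num) i.succ) (Fin.castLE (by norm_num) j)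
          = Equiv.swap (Fin.castLE (by norm_num) j : Fin 7) (Fin.castLE (by norm_num) j.succ) (Fin.castLE (by norm_num) i)) ∧
        (Equiv.swap (Fin.castLE (by norm_num) i : Fin 7) (Fin.castLE (by norm_num) i.succ) (Fin.castLE (by norm_num) j.succ)
          = Equiv.swap (Fin.castLE (by norm_num) j : Fin 7) (Fin.castLE (by norm_num) j.succ)
            (Fin.castLE (by norm_num) i.succ)) := by decide
    rw [(h1 i j hij).1, (h1 i j hij).2]
  · intro h
    rcases tri0.inj _ _ _ _ (ne 0) (ne 2) h with h1 | h1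
    · exact absurd h1.1 (by decide)
    · exact absurd h1.1 (by decide)

theorem refl {x : Spor.Fi23} (hx : orderOf x = 5) : Refl 5 x := by
  have hF : Fact (Nat.Prime 5) := ⟨Nat.prime_five⟩
  have hx5 : x ^ 5 = 1 := by rw [← hx, pow_orderOf_eq_one]
  obtain ⟨g, i, hg⟩ := conj_five hx5
  have h1 : Refl 5 (g * x * g⁻¹) := refl0.of_mem (by rw [hg]; exact zpow_mem (mem_zpowers _) i)
  exact h1.conj g⁻¹ (by group)

theorem abIrr' : AbIrr 5 Spor.Fi23 := by
  have h5 : Fact (Nat.Prime 5) := ⟨Nat.prime_five⟩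
  refine abIrr_of_refl (by norm_num) ?_ fun u hu => refl hu
  rw [card_G]
  norm_num

theorem abIrr {G : Type*} [Group G] (h : Spor.IsoFi23 G) : AbIrr 5 G :=
  AbIrr.of_mulEquiv h.some.symm abIrr'

end Cfsg.Agent.H800.Sp.FiTTh
end

-- part: H800/Sp/FiTF
section
/-!
The prime 5 in `Fi24'`.
-/

set_option autoImplicit false

namespace Cfsg.Agent.H800.Sp.FiTF

open Cfsg Cfsg.Agent.LThreeFi24.SNine
open Cfsg.Agent.LThreeFi24.FiveConj (exists_conj_five finite)
open Cfsg.Agent.H841.Five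
open Cfsg.Spor (Fi24)
open Cfsg.Agent.H800.Sp Cfsg.Agent.H795
open Equiv Subgroup
open scoped commutatorElement

/-- elements of `Fi24'` of order 5 and 2 in `C(y0)` -/
theorem refl_y0 : ∃ x c : Fi24, x ∈ commutator Fi24 ∧ c ∈ commutator Fi24 ∧ orderOf x = 5 ∧ y0 * x = x * y0 ∧
    y0 * c = c * y0 ∧ c * x * c⁻¹ = x⁻¹ := by
  have key : ∃ x c a g : Perm (Fin 9), x ^ 5 = 1 ∧ x ≠ 1 ∧ c * x * c⁻¹ = x⁻¹ ∧ c = ⁅a, g⁆ := by
    refine ⟨swap (0 : Fin 9) 1 * swap (1 : Fin 9) 2 * swap (2 : Fin 9) 3 * swap (3 : Fin 9) 4, swap (0 : Fin 9) 4 * swap (1 : Fin 9) 3, swap (0 : Fin 9) 4, swap (0 : Fin 9) 1 * swap (3 : Fin 9) 4, ?_, ?_, ?_, ?_⟩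
      <;> decide +kernel
  obtain ⟨x, c, a, g, hx5, hx1, hcx, hcg⟩ := key
  have hF : Fact (Nat.Prime 5) := ⟨Nat.prime_five⟩
  have hfx5 : Phi x ^ 5 = 1 := by rw [← map_pow, hx5, map_one]
  have hinv : Phi c * Phi x * (Phi c)⁻¹ = (Phi x)⁻¹ := by rw [← map_mul, ← map_inv, ← map_mul, hcx, map_inv]
  refine ⟨Phi x, Phi c, ?_, ?_, by rw [orderOf_injective Phi Phi_injective, orderOf_eq_prime hx5 hx1],
    (Phi_comm_y0 x).eq.symm, (Phi_comm_y0 c).eq.symm, hinv⟩
  · have h4 : ⁅Phi c, Phi x⁆ ∈ commutator Fi24 := Subgroup.commutator_mem_commutator (mem_top _) (mem_top _)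
    have h5 : ⁅Phi c, Phi x⁆ ^ 2 = Phi x := by
      rw [commutatorElement_def, hinv]
      have h6 : ((Phi x)⁻¹ * (Phi x)⁻¹) ^ 2 = (Phi x ^ 5)⁻¹ * Phi x := by group
      rw [h6, hfx5, inv_one, one_mul]
    rw [← h5]
    exact pow_mem h4 2
  · rw [hcg, map_commutatorElement]
    exact Subgroup.commutator_mem_commutator (mem_top _) (mem_top _)

theorem refl {u : Spor.Fi24'} (hu : orderOf u = 5) : Refl 5 u := by
  obtain ⟨x, c, hx, hc, hx5, hux, huc, hcx⟩ := refl_y0
  obtain ⟨g, hg⟩ := exists_conj_five (y := (u : Fi24)) (by rw [Subgroup.orderOf_coe, hu])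
  have hn : ∀ z : Fi24, z ∈ commutator Fi24 → g⁻¹ * z * g ∈ commutator Fi24 := by
    intro z hz
    have := (inferInstance : (commutator Fi24).Normal).conj_mem z hz g⁻¹
    rwa [inv_inv] at this
  have hug : (u : Fi24) = g⁻¹ * y0 * g := by rw [← hg]; group
  have hcomm : ∀ z : Fi24, y0 * z = z * y0 → (u : Fi24) * (g⁻¹ * z * g) = (g⁻¹ * z * g) * u := by
    intro z hz
    rw [hug]
    calc g⁻¹ * y0 * g * (g⁻¹ * z * g) = g⁻¹ * (y0 * z) * g := by group
      _ = g⁻¹ * (z * y0) * g := by rw [hz]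
      _ = g⁻¹ * z * g * (g⁻¹ * y0 * g) := by group
  refine ⟨⟨_, hn x hx⟩, ⟨_, hn c hc⟩, ?_, Subtype.ext (hcomm x hux), Subtype.ext (hcomm c huc), Subtype.ext ?_⟩
  · rw [Subgroup.orderOf_mk, ← hx5]
    have h1 := conj_order g⁻¹ x
    rwa [inv_inv] at h1
  · show (g⁻¹ * c * g) * (g⁻¹ * x * g) * (g⁻¹ * c * g)⁻¹ = (g⁻¹ * x * g)⁻¹
    calc (g⁻¹ * c * g) * (g⁻¹ * x * g) * (g⁻¹ * c * g)⁻¹ = g⁻¹ * (c * x * c⁻¹) * g := by group
      _ = (g⁻¹ * x * g)⁻¹ := by rw [hcx]; group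

theorem abIrr' : AbIrr 5 Spor.Fi24' := by
  have h5 : Fact (Nat.Prime 5) := ⟨Nat.prime_five⟩
  have hfin : Finite Fi24 := finite
  refine abIrr_of_refl (by norm_num) ?_ fun u hu => refl hu
  rw [Cfsg.Agent.R08.FiTwentyFour.card_commutator]
  norm_num

theorem abIrr {G : Type*} [Group G] (h : Spor.IsoFi24' G) : AbIrr 5 G :=
  AbIrr.of_mulEquiv h.some.symm abIrr'

end Cfsg.Agent.H800.Sp.FiTF
end

-- part: H800/Sp/CoOne
section
/-!
The prime 7 in `Co1`: two classes of subgroups of order 7.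
-/

set_option autoImplicit false

namespace Cfsg.Agent.H800.Sp.CoOne

open Subgroup Cfsg.Agent.H800.Sp Cfsg.Agent.H795
open Cfsg.Agent.CpAutBig.SevenFix
open Cfsg.Agent.LThreeMB (fr fr_conj)
open Cfsg.Spor (Co1)

theorem abIrr' : AbIrr 7 Co1 := by
  have hfin : Finite Co1 := BpSevenCo.Conj.finite_co1
  have h7 : Fact (Nat.Prime 7) := ⟨by norm_num⟩
  refine abIrr_of_two BpSevenCo.Conj.orderOf_x CpAutMSeven.Ranks.orderOf_mk_r7 fun s hs => ?_
  by_cases h : fr s = 1
  · obtain ⟨g, i, -, hg⟩ := BpSevenCo.Conj.conj_pow hs h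
    exact Or.inl ⟨g, by rw [hg]; exact npow_mem_zpowers _ _⟩
  · obtain ⟨g, hg⟩ := isConj_iff.1 (CpAutMSeven.Ranks.isConj_of_fr hs h)
    exact Or.inr ⟨g, by rw [hg]; exact mem_zpowers _⟩

/-- **the row `(Co1, 7)`** -/
theorem abIrr {G : Type*} [Group G] (h : Cfsg.Spor.IsoCo1 G) : AbIrr 7 G :=
  AbIrr.of_mulEquiv h.some.symm abIrr'

end Cfsg.Agent.H800.Sp.CoOne
end
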