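import Cfsg.Agent.H800.Sp.Base_m3
import Cfsg.Agent.J2Type.ThreeD
import Cfsg.Agent.KFacts.J2.Facts
import Cfsg.Agent.FastGrp
import Cfsg.Agent.Prune
set_option linter.all false
prune_inst 0x7f00000000000000000000000000000000000000000000000000000000000000000000000000000000000000000000000000000000000000000000000000000000000000000000000000000000000000003fffffffffffffffffffffffffffbeffbdffffffff
open scoped Cfsg.Agent.FastGrp

/-!
The prime 5 in the Hall–Janko group: two classes of subgroups of order 5.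
-/

set_option autoImplicit false

namespace Cfsg.Agent.H800.Sp.J2

open Subgroup Cfsg.Agent.H800.Sp Cfsg.Agent.H795 Cfsg.Agent.J2Type

/-- the two representatives -/
theorem data {G : Type*} [Group G] [Finite G] (h : Cfsg.Spor.IsoJ2 G) : ∃ w' w : G, orderOf w' = 5 ∧ orderOf w = 5 ∧
    IsConj w' w'⁻¹ ∧ ∀ y : G, orderOf y = 5 → IsConj w' y ∨ IsConj (w' ^ 2) y ∨ IsConj w y ∨ IsConj (w ^ 2) y := by
  have h5 : Fact (Nat.Prime 5) := ⟨Nat.prime_five⟩
  obtain ⟨z, u, Q, v, ρ, D⟩ := KFacts.J2.Facts.exists_dat_of h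
  have hF := D.F
  obtain ⟨f, U, V, H0, F⟩ := CentU.main hF
  have hG := Order.card_of_fus hF
  have h60 := ThreeA.card_H0 hF F
  obtain ⟨w0, hw0, hwz⟩ := ThreeD.exists_w0 hF
  obtain ⟨w, hw⟩ := exists_prime_orderOf_dvd_card' (G := H0) 5 (by rw [h60]; norm_num)
  have hw5 : orderOf (w : G) = 5 := by rw [orderOf_coe]; exact hw
  have hgood := Cent5.good_of_mem hF F h60 w.2 hw5
  obtain ⟨-, hcl⟩ := ThreeC.five_data hG hgood hw0 (FiveFus.real_of_comm hF hw0 hwz)
    (FiveFus.not_four_dvd hF hw0 hwz)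
  exact ⟨w, w0, hw5, hw0, hgood.2.1, hcl⟩

theorem abIrr {G : Type*} [Group G] [Finite G] (h : Cfsg.Spor.IsoJ2 G) : AbIrr 5 G := by
  have h5 : Fact (Nat.Prime 5) := ⟨Nat.prime_five⟩
  obtain ⟨w', w, hw', hw, -, hcl⟩ := data h
  have key : ∀ {a y : G} {k : ℕ}, IsConj (a ^ k) y → ∃ g : G, g * y * g⁻¹ ∈ zpowers a := by
    intro a y k hc
    obtain ⟨c, hc⟩ := isConj_iff.1 hc
    refine ⟨c⁻¹, ?_⟩
    have h1 : c⁻¹ * y * c⁻¹⁻¹ = a ^ k := by rw [← hc]; group
    rw [h1]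
    exact Subgroup.npow_mem_zpowers a k
  refine abIrr_of_two hw' hw fun y hy => ?_
  rcases hcl y hy with h1 | h1 | h1 | h1
  · exact Or.inl (key (k := 1) (by rwa [pow_one]))
  · exact Or.inl (key h1)
  · exact Or.inr (key (k := 1) (by rwa [pow_one]))
  · exact Or.inr (key h1)

end Cfsg.Agent.H800.Sp.J2
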