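import Cfsg.Agent.H800.Sp.Base_m3
import Cfsg.Agent.H865.ListGroup
import Cfsg.Agent.SporadicA.MathieuRecog
import Cfsg.Agent.SporadicA.M11Facts2
import Cfsg.Agent.Cit.Eleven
import Cfsg.Agent.H800.Sp.Refl
import Cfsg.Agent.LThreeFi22.Inst
import Cfsg.Agent.FastGrp
import Cfsg.Agent.Prune
set_option linter.all false
prune_inst 0x7f00000000000000000000000000000000000000000000000000000000000000000000000000000000000000000000000000000000000000000000000000000000000000000000000000000000000000003fffffffffffffffffffffffffffbeffbdffffffff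
open scoped Cfsg.Agent.FastGrp

-- part: H800/Sp/Mathieu
section
/-!
The prime 3 in the Mathieu groups `M₁₁`, `M₂₂`, `M₂₃`: one class of elements of order 3.
-/

set_option autoImplicit false

namespace Cfsg.Agent.H800.Sp.Mathieu

open Cfsg Cfsg.Agent.SporadicA.GolayBase Cfsg.Agent.SporadicA.GolayPerm
open Cfsg.Agent.SporadicStructure.M24El Cfsg.Agent.H865.ListGroup
open Cfsg.Agent.H800.Sp
open scoped Pointwise

/-- an element of order 3 fixing the points `0` and `none` -/
def A : ℕ := 983073955986171786654325943552840736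

/-- the 9 elements of a Sylow 3-subgroup -/
def L : List ℕ := [
  984818244535754528103549039458486304, 969257820457882433260191157202693536,
  983065066191908422317147097653233280, 983073955986171786654325943552840736,
  984794138894353006637056755077025184, 969273036009098216854442941979311744,
  969281915092206789410489974136348704, 983049855494464875539509834063319456,
  984809351897290121668558571835574912]

/-- conjugating elements -/
def CL : List ℕ := [
  959734987949380897090005674331025600, 971535799724569186844783094646546720,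
  969281679779659591710604055291179616, 972311587609377260241177811311731392,
  967730298125500537096255261119724768, 984370798342469428377360417207715872,
  976532879972916326543890988805530048, 957478855725095099165482492007751360]

theorem okA : ok A = true := by decide +kernel

theorem chkL : chkGroup L = true := by decide +kernel

theorem L_nodup : L.Nodup := by decide +kernel

theorem CL_ok : ∀ c ∈ CL, ok c = true := by decide +kernel

/-- fixes the points `0` and `none` -/
def fix (P : ℕ) : Bool := Nat.beq (papp P 0) 0 && Nat.beq (papp P 23) 23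

theorem L_fix : ∀ P ∈ L, fix P = true := by decide +kernel

theorem CL_fix : ∀ P ∈ CL, fix P = true := by decide +kernel

theorem A_mem : A ∈ L := by decide +kernel

/-- the check of the conjugations -/
def chkConj : Bool := L.all fun P => Nat.beq P idP || CL.any fun c => Nat.beq (pcomp c P) (pcomp A c)

theorem chkConj_true : chkConj = true := by decide +kernel

theorem conj_L {P : ℕ} (hP : P ∈ L) (hne : el P ≠ 1) : ∃ c ∈ CL, el c * el P * (el c)⁻¹ = el A := by
  have h := chkConj_true
  unfold chkConj at h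
  rw [List.all_eq_true] at h
  have h1 := h P hP
  have okP := ((chkGroup_spec chkL).1 P hP).1
  rw [Bool.or_eq_true, Nat.beq_eq, List.any_eq_true] at h1
  rcases h1 with h1 | ⟨c, hc, h1⟩
  · exact absurd (by rw [h1, el_idP]) hne
  · have okc := CL_ok c hc
    rw [Nat.beq_eq] at h1
    refine ⟨c, hc, ?_⟩
    rw [mul_inv_eq_iff_eq_mul, ← el_pcomp okc okP, ← el_pcomp okA okc, h1]

theorem ptZero : pt 0 = (some 0 : GolayPt) := by decide

theorem ptNone : pt 23 = (none : GolayPt) := by decide

theorem el_fix {P : ℕ} (h : ok P = true) (hf : fix P = true) : (el P : Equiv.Perm GolayPt) ∈ Cfsg.Spor.M22 := by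
  unfold fix at hf
  rw [Bool.and_eq_true, Nat.beq_eq, Nat.beq_eq] at hf
  have h0 : idx (some 0 : GolayPt) = 0 := by decide
  have h1 : idx (none : GolayPt) = 23 := by decide
  unfold Cfsg.Spor.M22 Cfsg.Spor.M23
  rw [Subgroup.mem_inf, Subgroup.mem_inf, MulAction.mem_stabilizer_iff, MulAction.mem_stabilizer_iff]
  refine ⟨⟨(el P).2, ?_⟩, ?_⟩
  · rw [coe_el h]
    show permOf P _ none = none
    rw [permOf_apply, h1, hf.2, ptNone]
  · rw [coe_el h]
    show permOf P _ (some 0) = some 0
    rw [permOf_apply, h0, hf.1, ptZero]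

instance instFactPrimeThree : Fact (Nat.Prime 3) := ⟨Nat.prime_three⟩

/-- elements of order 3 of a subgroup of `M24` containing `M22`, of order `9 m`, `3 ∤ m` -/
theorem oneClass_of (H : Subgroup (Equiv.Perm GolayPt)) (h22 : Cfsg.Spor.M22 ≤ H) {m : ℕ}
    (hc : Nat.card H = 9 * m) (hm : ¬ 3 ∣ m) : OneClass 3 H := by
  have hPH : (listGroup L chkL : Subgroup M24).map M24.subtype ≤ H := by
    rintro _ ⟨_, ⟨P, hP, rfl⟩, rfl⟩
    exact h22 (el_fix ((chkGroup_spec chkL).1 P hP).1 (L_fix P hP))
  have hcP : Nat.card ((listGroup L chkL : Subgroup M24).map M24.subtype) = 9 := by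
    rw [Nat.card_congr (Subgroup.equivMapOfInjective _ _ M24.subtype_injective).toEquiv.symm,
      card_listGroup chkL L_nodup]
    rfl
  have hcP' : Nat.card (((listGroup L chkL : Subgroup M24).map M24.subtype).subgroupOf H) = 9 := by
    rw [Nat.card_congr (Subgroup.subgroupOfEquivOfLe hPH).toEquiv, hcP]
  refine OneClass.of_subgroup (((listGroup L chkL : Subgroup M24).map M24.subtype).subgroupOf H)
    (IsPGroup.of_card (n := 2) (by rw [hcP']; norm_num)) ?_ ?_
  · have h1 := Subgroup.card_mul_index (((listGroup L chkL : Subgroup M24).map M24.subtype).subgroupOf H)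
    rw [hcP', hc] at h1
    rwa [Nat.eq_of_mul_eq_mul_left (by norm_num) h1]
  · have key : ∀ x ∈ (((listGroup L chkL : Subgroup M24).map M24.subtype).subgroupOf H), orderOf x = 3 →
        ∃ c : H, c * x * c⁻¹ = ⟨el A, h22 (el_fix okA (L_fix A A_mem))⟩ := by
      rintro ⟨x, hxH⟩ hx hx3
      rw [Subgroup.mem_subgroupOf] at hx
      obtain ⟨_, ⟨P, hP, rfl⟩, hPx⟩ := hx
      have hPx' : (el P : Equiv.Perm GolayPt) = x := hPx
      obtain ⟨c, hc, hc1⟩ := conj_L hP (by
        intro h0
        have : x = 1 := by rw [← hPx', h0]; rfl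
        subst this
        rw [Subgroup.orderOf_mk, orderOf_one] at hx3
        exact absurd hx3 (by norm_num))
      refine ⟨⟨el c, h22 (el_fix (CL_ok c hc) (CL_fix c hc))⟩, Subtype.ext ?_⟩
      show (el c : Equiv.Perm GolayPt) * x * (el c : Equiv.Perm GolayPt)⁻¹ = el A
      rw [← hPx', ← hc1]
      rfl
    intro x hx y hy hx3 hy3
    obtain ⟨c, hc⟩ := key x hx hx3
    obtain ⟨d, hd⟩ := key y hy hy3
    refine ⟨d⁻¹ * c, ?_⟩
    have e : d⁻¹ * c * x * (d⁻¹ * c)⁻¹ = d⁻¹ * (c * x * c⁻¹) * d := by group
    rw [e, hc, ← hd]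
    group

theorem oneClass_M22' : OneClass 3 Cfsg.Spor.M22 :=
  oneClass_of _ le_rfl (m := 49280)
    (by rw [Cfsg.Agent.SporadicA.MathieuRecog.card_M22]) (by norm_num)

theorem oneClass_M23' : OneClass 3 Cfsg.Spor.M23 :=
  oneClass_of _ inf_le_left (m := 1133440)
    (by rw [Cfsg.Agent.SporadicA.MathieuRecog.card_M23]) (by norm_num)

/-- `M₂₂` has one class of elements of order 3 -/
theorem oneClass_M22 {G : Type*} [Group G] (h : Cfsg.Spor.IsoM22 G) : OneClass 3 G :=
  oneClass_M22'.of_mulEquiv h.some.symm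

/-- `M₂₃` has one class of elements of order 3 -/
theorem oneClass_M23 {G : Type*} [Group G] (h : Cfsg.Spor.IsoM23 G) : OneClass 3 G :=
  oneClass_M23'.of_mulEquiv h.some.symm

/-- `M₁₁` has one class of elements of order 3 -/
theorem oneClass_M11 {G : Type*} [Group G] [Finite G] (h : Cfsg.Spor.IsoM11 G) : OneClass 3 G := by
  intro x y hx hy
  have h1 := Cfsg.Agent.SporadicA.M11Facts2.isConj_three (Cfsg.Agent.Cit.Eleven.isM11 h) hx hy
  rw [isConj_iff] at h1
  exact h1

end Cfsg.Agent.H800.Sp.Mathieu
end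

-- part: H800/Sp/FiTT
section
/-!
The prime 5 in `Fi22`: for `u` of order 5 the transpositions commuting with `u` generate `S₅`.
(The first lemmas are copied from helper36's `BpSpor.FiTT`.)
-/

set_option autoImplicit false

namespace Cfsg.Agent.H800.Sp.FiTT

open Subgroup Cfsg Equiv
open Cfsg.Agent.LThreeFi22
open Cfsg.Agent.H800.Sp Cfsg.Agent.H795

universe v

variable {K : Type v} [Group K] {T : Set K}

/-- commuting elements `x`, `y` with `x ^ 3 = y ^ 3 = 1` generating more than `⟨x⟩` -/
theorem nine_dvd {H : Type*} [Group H] [Finite H] {x y : H} (hx : x ^ 3 = 1) (hy : y ^ 3 = 1) (hx1 : x ≠ 1)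
    (hxy : x * y = y * x) (hne : y ∉ zpowers x) : 9 ∣ Nat.card H := by
  have : Fact (Nat.Prime 3) := ⟨Nat.prime_three⟩
  have ho : orderOf x = 3 := orderOf_eq_prime hx hx1
  have hc : ∀ a ∈ zpowers x, ∀ b ∈ zpowers y, a * b = b * a := by
    rintro _ ⟨i, rfl⟩ _ ⟨j, rfl⟩
    exact ((show Commute x y from hxy).zpow_zpow i j).eq
  have hle : zpowers y ≤ normalizer (zpowers x : Set H) := by
    intro b hb
    rw [mem_normalizer_iff]
    intro a
    constructor
    · intro ha
      rw [← hc a ha b hb, mul_inv_cancel_right]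
      exact ha
    · intro ha
      have h1 := hc _ ha b hb
      have h2 : b * a * b⁻¹ = a := by
        have h3 : b * a * b⁻¹ * b = b * (b * a * b⁻¹) := h1
        have h4 : a = b * a * b⁻¹ := by
          have h5 : b * a = b * (b * a * b⁻¹) := by
            rw [← h3]
            group
          exact mul_left_cancel h5
        exact h4.symm
      rwa [h2] at ha
  have hPx : IsPGroup 3 ↥(zpowers x) := IsPGroup.of_card (n := 1) (by rw [Nat.card_zpowers, ho, pow_one])
  have hPy : IsPGroup 3 ↥(zpowers y) := by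
    obtain ⟨m, hm, hm'⟩ := (Nat.dvd_prime_pow Nat.prime_three).1 (orderOf_dvd_of_pow_eq_one (by rw [pow_one]; exact hy : y ^ 3 ^ 1 = 1))
    exact IsPGroup.of_card (n := m) (by rw [Nat.card_zpowers, hm'])
  have hP : IsPGroup 3 ↥(zpowers x ⊔ zpowers y : Subgroup H) := hPx.to_sup_of_normal_left' hPy hle
  obtain ⟨m, hm⟩ := IsPGroup.iff_card.1 hP
  have hlt : Nat.card ↥(zpowers x) < Nat.card ↥(zpowers x ⊔ zpowers y : Subgroup H) := by
    refine lt_of_le_of_ne (card_le_of_le le_sup_left) ?_
    intro h1
    apply hne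
    have h3 : zpowers x = zpowers x ⊔ zpowers y := eq_of_le_of_card_ge le_sup_left h1.ge
    rw [h3]
    exact mem_sup_right (mem_zpowers y)
  have hm2 : 2 ≤ m := by
    by_contra h1
    rw [hm, Nat.card_zpowers, ho] at hlt
    have : 3 ^ m ≤ 3 ^ 1 := Nat.pow_le_pow_right (by norm_num) (by omega)
    omega
  refine (pow_dvd_pow 3 hm2).trans ?_
  rw [← hm]
  exact card_subgroup_dvd_card _

section five

variable (C : Ctx K T) {u : K} (hu : u ^ 5 = 1) (hu1 : u ≠ 1)
include C hu hu1

/-- no two orthogonal noncommuting pairs -/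
theorem no_sq {a b c d : K} (ha : a ∈ Fx T u) (hb : b ∈ Fx T u) (hc : c ∈ Fx T u) (hd : d ∈ Fx T u) (hab : a * b ≠ b * a)
    (hcd : c * d ≠ d * c) (hac : a * c = c * a) (had : a * d = d * a) (hbc : b * c = c * b) (hbd : b * d = d * b) : False := by
  have := C.finite
  apply C.nine_five hu hu1
  have h3 : (a * b) ^ 3 = 1 := C.cube ha.1 hb.1 hab
  have h4 : (c * d) ^ 3 = 1 := C.cube hc.1 hd.1 hcd
  have m1 : a * b ∈ centralizer ({u} : Set K) := by
    rw [mem_centralizer_singleton_iff, mul_assoc, ← hb.2, ← mul_assoc, ← ha.2, mul_assoc]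
  have m2 : c * d ∈ centralizer ({u} : Set K) := by
    rw [mem_centralizer_singleton_iff, mul_assoc, ← hd.2, ← mul_assoc, ← hc.2, mul_assoc]
  have e1 : Commute a (c * d) := (show Commute a c from hac).mul_right had
  have e2 : Commute b (c * d) := (show Commute b c from hbc).mul_right hbd
  refine nine_dvd (x := (⟨a * b, m1⟩ : ↥(centralizer ({u} : Set K)))) (y := ⟨c * d, m2⟩) (Subtype.ext h3) (Subtype.ext h4) ?_
    (Subtype.ext (e1.mul_left e2).eq) ?_
  · intro h
    apply hab
    have h5 : a * b = 1 := congrArg Subtype.val h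
    have h6 : a = b⁻¹ := eq_inv_of_mul_eq_one_left h5
    rw [h6, inv_mul_cancel, mul_inv_cancel]
  · rintro ⟨i, hi⟩
    have h5 : (a * b) ^ i = c * d := congrArg Subtype.val hi
    -- `c d` commutes with `a b` and with `c`, `d`
    have h6 : Commute (c * d) c := by
      rw [← h5]
      have e3 : Commute (a * b) c := (show Commute a c from hac).mul_left hbc
      exact e3.zpow_left i
    apply hcd
    have h7 : c * d * c = c * (c * d) := h6.eq
    have h8 : d * c = c * d := by
      rw [mul_assoc] at h7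
      exact mul_left_cancel h7
    exact h8.symm

theorem exists_ne {d : K} (e : K) (hd : d ∈ Fx T u) : ∃ c ∈ Fx T u, c ≠ d ∧ d * c = c * d ∧ c ≠ e := by
  have := C.finite
  have h := C.five_link hu hu1 hd
  by_contra hcon
  push Not at hcon
  have h1 : {c | c ∈ Fx T u ∧ c ≠ d ∧ d * c = c * d} ⊆ {e} := fun c hc => hcon c hc.1 hc.2.1 hc.2.2
  have h2 := Set.ncard_le_ncard h1 (Set.toFinite _)
  rw [h, Set.ncard_singleton] at h2
  omega

theorem exists_path : ∃ r : Fin 4 → K, (∀ i, r i ∈ Fx T u) ∧ (∀ i j : Fin 4, i.val + 1 < j.val → r i * r j = r j * r i) ∧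
    (∀ i j : Fin 4, i.val + 1 = j.val → r i * r j ≠ r j * r i) ∧ r 0 ≠ r 2 := by
  obtain ⟨d, hd1, hd2⟩ := C.ex5 u hu hu1
  have hd : d ∈ Fx T u := ⟨hd1, hd2⟩
  obtain ⟨a, ha, had, hda, -⟩ := exists_ne C hu hu1 d hd
  obtain ⟨c, hc, hca, hac, hcd⟩ := exists_ne C hu hu1 d ha
  obtain ⟨b, hb, hbd, hdb, hba⟩ := exists_ne C hu hu1 a hd
  have nab : a * b ≠ b * a := fun h => hba (C.five_free hu hu1 hd hb ha hbd had hdb hda h.symm)
  have ncd : c * d ≠ d * c := fun h => hcd (C.five_free hu hu1 ha hc hd hca had.symm hac hda.symm h)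
  have nbc : b * c ≠ c * b := fun h => no_sq C hu hu1 ha hb hc hd nab ncd hac hda.symm h hdb.symm
  refine ⟨![a, b, c, d], ?_, ?_, ?_, ?_⟩
  · intro i
    fin_cases i
    · exact ha
    · exact hb
    · exact hc
    · exact hd
  · intro i j hij
    fin_cases i <;> fin_cases j <;> first | exact absurd hij (by decide) | skip
    · exact hac
    · exact hda.symm
    · exact hdb.symm
  · intro i j hij
    fin_cases i <;> fin_cases j <;> first | exact absurd hij (by decide) | skip
    · exact nab
    · exact nbc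
    · exact ncd
  · exact hca.symm

theorem refl : Refl 5 u := by
  obtain ⟨r, hr, hc, hn, h02⟩ := exists_path C hu hu1
  exact refl_of_path r (fun i => (hr i).2) (fun i => C.sq _ (hr i).1) hc
    (fun i j hij => (C.three _ (hr i).1 _ (hr j).1).resolve_left (hn i j hij)) h02

end five

theorem abIrr {G : Type v} [Group G] [Finite G] (h : Spor.IsoFi22 G) : AbIrr 5 G := by
  have h5 : Fact (Nat.Prime 5) := ⟨Nat.prime_five⟩
  obtain ⟨e⟩ := h
  have C := Cfsg.Agent.LThreeFi22.Inst.ctx e
  refine abIrr_of_refl (by norm_num) (by rw [C.card]; norm_num) fun u hu => ?_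
  exact refl C (by rw [← hu, pow_orderOf_eq_one]) (by
    rintro rfl
    rw [orderOf_one] at hu
    omega)

end Cfsg.Agent.H800.Sp.FiTT
end
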