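import Cfsg.Agent.H800.Sp.Base_m3
import Cfsg.Agent.R04.ONThree
import Cfsg.Agent.KFacts.ON.Words_m3
import Cfsg.Agent.FastGrp
import Cfsg.Agent.Prune
set_option linter.all false
prune_inst 0x7f00000000000000000000000000000000000000000000000000000000000000000000000000000000000000000000000000000000000000000000000000000000000000000000000000000000000000003fffffffffffffffffffffffffffbeffbdffffffff
open scoped Cfsg.Agent.FastGrp

/-!
The prime 3 in the O'Nan group: the Sylow 3-subgroup `S = E₁ × E₂` of order 81 (`E₁ = ⟨x₁, x₂⟩ = C_S(f)`,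
`E₂ = ⟨x₃, x₄⟩ = C_S(a)`), `p` irreducible on `E₁` and trivial on `E₂`, `q` the other way round; `E₁` and `E₂` are
conjugate because `a` and `f` are.
-/

set_option autoImplicit false

namespace Cfsg.Agent.H800.Sp.ON

open Subgroup Cfsg.Agent.H800.Sp Cfsg.Agent.H795 Cfsg.Agent.R04.ThreeAbs

instance instFactPrimeThree : Fact (Nat.Prime 3) := ⟨Nat.prime_three⟩

section

variable {G : Type*} [Group G]

theorem cp (g x : G) (n : ℕ) : g * x ^ n * g⁻¹ = (g * x * g⁻¹) ^ n := (conj_pow (a := g) (b := x)).symm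

variable {a b e f p q : G} (D : Data a b e f p q)
include D

theorem conj_p (i j k l : ℕ) : p * el a b e f p q i j k l * p⁻¹ = el a b e f p q (2 * j) i k l := by
  have c12 : Commute (a * b) (p * (a * b) * p⁻¹) := D.c12
  have h34 : Commute p ((f * e) ^ k * (q * (f * e) * q⁻¹) ^ l) :=
    (D.comm_p_3.pow_right k).mul_right (D.comm_p_4.pow_right l)
  unfold el
  set A := a * b with hA
  have hB : p * (p * A * p⁻¹) * p⁻¹ = A ^ 2 := D.px2
  set B := p * A * p⁻¹ with hBd
  set V := (f * e) ^ k * (q * (f * e) * q⁻¹) ^ l with hV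
  calc p * (A ^ i * B ^ j * V) * p⁻¹ = (p * A ^ i * p⁻¹) * (p * B ^ j * p⁻¹) * (p * V * p⁻¹) := by group
    _ = (p * A * p⁻¹) ^ i * (p * B * p⁻¹) ^ j * V := by
        rw [h34.eq, mul_inv_cancel_right, ← cp p A i, ← cp p B j]
    _ = B ^ i * (A ^ 2) ^ j * V := by rw [hB]
    _ = A ^ (2 * j) * B ^ i * V := by rw [← pow_mul, (c12.symm.pow_pow i (2 * j)).eq]

theorem conj_q (i j k l : ℕ) : q * el a b e f p q i j k l * q⁻¹ = el a b e f p q i j (2 * l) k := by
  have c34 : Commute (f * e) (q * (f * e) * q⁻¹) := D.c34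
  have h12 : Commute q ((a * b) ^ i * (p * (a * b) * p⁻¹) ^ j) :=
    (D.comm_q_1.pow_right i).mul_right (D.comm_q_2.pow_right j)
  unfold el
  set A := f * e with hA
  have hB : q * (q * A * q⁻¹) * q⁻¹ = A ^ 2 := D.qx4
  set B := q * A * q⁻¹ with hBd
  set V := (a * b) ^ i * (p * (a * b) * p⁻¹) ^ j with hV
  calc q * (V * (A ^ k * B ^ l)) * q⁻¹ = (q * V * q⁻¹) * ((q * A ^ k * q⁻¹) * (q * B ^ l * q⁻¹)) := by group
    _ = V * ((q * A * q⁻¹) ^ k * (q * B * q⁻¹) ^ l) := by
        rw [h12.eq, mul_inv_cancel_right, ← cp q A k, ← cp q B l]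
    _ = V * (B ^ k * (A ^ 2) ^ l) := by rw [hB]
    _ = V * (A ^ (2 * l) * B ^ k) := by rw [← pow_mul, (c34.symm.pow_pow k (2 * l)).eq]

theorem conj_a (i j k l : ℕ) : a * el a b e f p q i j k l * a⁻¹ = el a b e f p q (2 * i) (2 * j) k l := by
  have h : a * el a b e f p q i j k l * a⁻¹ = p * (p * el a b e f p q i j k l * p⁻¹) * p⁻¹ := by
    rw [← D.pp]; group
  rw [h, conj_p D, conj_p D]

theorem conj_f (i j k l : ℕ) : f * el a b e f p q i j k l * f⁻¹ = el a b e f p q i j (2 * k) (2 * l) := by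
  have h : f * el a b e f p q i j k l * f⁻¹ = q * (q * el a b e f p q i j k l * q⁻¹) * q⁻¹ := by
    rw [← D.qq]; group
  rw [h, conj_q D, conj_q D]

theorem el_congr {i j k l i' j' k' l' : ℕ} (h1 : i % 3 = i' % 3) (h2 : j % 3 = j' % 3) (h3 : k % 3 = k' % 3)
    (h4 : l % 3 = l' % 3) : el a b e f p q i j k l = el a b e f p q i' j' k' l' := by
  rw [D.el_mod i j k l, D.el_mod i' j' k' l', h1, h2, h3, h4]

theorem el_zero {i j k l : ℕ} (h1 : i % 3 = 0) (h2 : j % 3 = 0) (h3 : k % 3 = 0) (h4 : l % 3 = 0) :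
    el a b e f p q i j k l = 1 := by
  rw [D.el_mod, h1, h2, h3, h4]
  simp only [el, _root_.pow_zero, _root_.mul_one]

theorem el_pow (i j k l n : ℕ) : el a b e f p q i j k l ^ n = el a b e f p q (n * i) (n * j) (n * k) (n * l) := by
  induction n with
  | zero => rw [pow_zero, el_zero D] <;> simp only [_root_.MulZeroClass.zero_mul, _root_.Nat.zero_mod]
  | succ n ih =>
    rw [pow_succ, ih, D.el_mul]
    congr 1 <;> ring

/-- the abstract result -/
theorem abIrr_of_data [Finite G] (hab : a * b ≠ 1) (hfe : f * e ≠ 1) (ha : a ≠ 1) (hf : f ≠ 1)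
    (I : _root_.Cfsg.Agent.R04.ThreeAbs.Inv (a * b) (p * (a * b) * p⁻¹) (f * e) (q * (f * e) * q⁻¹)) (h81 : ¬ 243 ∣ Nat.card G)
    (h27a : ¬ 3 ^ 3 ∣ Nat.card (centralizer ({a} : Set G))) (h27f : ¬ 3 ^ 3 ∣ Nat.card (centralizer ({f} : Set G)))
    {r : G} (hr : r * f * r⁻¹ = a) : AbIrr 3 G := by
  have hE := D.card_E hab hfe ha hf I
  have hfac : (Nat.card G).factorization 3 = 4 := by
    have h1 : 3 ^ 4 ∣ Nat.card G := by
      rw [show 3 ^ 4 = Nat.card D.E by rw [hE]; norm_num]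
      exact Subgroup.card_subgroup_dvd_card _
    have h0 : Nat.card G ≠ 0 := Nat.card_pos.ne'
    have h2 := (Nat.Prime.pow_dvd_iff_le_factorization Nat.prime_three h0).1 h1
    have h3 : ¬ 5 ≤ (Nat.card G).factorization 3 := by
      intro h
      apply h81
      have := (Nat.Prime.pow_dvd_iff_le_factorization Nat.prime_three h0).2 h
      norm_num at this
      exact this
    omega
  let S : Sylow 3 G := Sylow.ofCard D.E (by rw [hfac, hE]; norm_num)
  have hSE : (S : Subgroup G) = D.E := rfl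
  refine abIrr_of_sylow S fun hS B hBS hBp hinv => ?_
  rw [hSE] at hBS hinv ⊢
  have hpN : p ∈ normalizer ((D.E : Subgroup G) : Set G) := by
    apply mem_normalizer_of_le
    rintro _ ⟨i, j, k, l, rfl⟩
    rw [conj_p D]
    exact ⟨_, _, _, _, rfl⟩
  have hqN : q ∈ normalizer ((D.E : Subgroup G) : Set G) := by
    apply mem_normalizer_of_le
    rintro _ ⟨i, j, k, l, rfl⟩
    rw [conj_q D]
    exact ⟨_, _, _, _, rfl⟩
  have haN : a ∈ normalizer ((D.E : Subgroup G) : Set G) := by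
    have h := mul_mem hpN hpN
    rwa [D.pp] at h
  have hfN : f ∈ normalizer ((D.E : Subgroup G) : Set G) := by
    have h := mul_mem hqN hqN
    rwa [D.qq] at h
  have h1E : a * b ∈ D.E := ⟨1, 0, 0, 0, by simp only [el, _root_.pow_one, _root_.pow_zero, _root_.mul_one]⟩
  have h2E : p * (a * b) * p⁻¹ ∈ D.E := ⟨0, 1, 0, 0, by simp only [el, _root_.pow_zero, _root_.pow_one, _root_.one_mul, _root_.mul_one]⟩
  have h3E : f * e ∈ D.E := ⟨0, 0, 1, 0, by simp [el]⟩
  have h4E : q * (f * e) * q⁻¹ ∈ D.E := ⟨0, 0, 0, 1, by simp [el]⟩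
  -- the components of an element of `B`
  have hA : ∀ i j k l : ℕ, el a b e f p q i j k l ∈ B →
      el a b e f p q i j 0 0 ∈ B ∧ el a b e f p q 0 0 k l ∈ B := by
    intro i j k l h
    constructor
    · have h1 := hinv a haN _ h
      rw [conj_a D] at h1
      have h2 := B.mul_mem (B.pow_mem h 2) h1
      have h3 := B.mul_mem h h2
      have h4 : el a b e f p q i j k l * (el a b e f p q i j k l ^ 2 * el a b e f p q (2 * i) (2 * j) k l) =
          el a b e f p q (2 * i) (2 * j) k l := by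
        rw [← mul_assoc, ← pow_succ', hBp _ h, one_mul]
      -- `y² * (a y a⁻¹)⁻¹` : use `y * (a y a⁻¹)²`
      have h5 := B.mul_mem h (B.pow_mem h1 2)
      rw [el_pow D, D.el_mul] at h5
      have h6 := B.pow_mem h5 2
      rw [el_pow D] at h6
      rwa [el_congr D (i' := i) (j' := j) (k' := 0) (l' := 0) (by omega) (by (clear * -; omega)) (by omega) (by omega)] at h6
    · have h1 := hinv f hfN _ h
      rw [conj_f D] at h1
      have h5 := B.mul_mem h (B.pow_mem h1 2)
      rw [el_pow D, D.el_mul] at h5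
      have h6 := B.pow_mem h5 2
      rw [el_pow D] at h6
      rwa [el_congr D (i' := 0) (j' := 0) (k' := k) (l' := l) (by omega) (by omega) (by (clear * -; omega)) (by omega)] at h6
  have hsq : ∀ i j : ℕ, ¬ (i % 3 = 0 ∧ j % 3 = 0) → (i * i + 2 * j * (2 * j)) % 3 = 1 ∨ (i * i + 2 * j * (2 * j)) % 3 = 2 := by
    intro i j h
    have h1 : (i * i + 2 * j * (2 * j)) % 3 = ((i % 3) * (i % 3) + 2 * (j % 3) * (2 * (j % 3))) % 3 := by
      simp only [Nat.add_mod, Nat.mul_mod, _root_.dvd_refl, _root_.Nat.mod_mod_of_dvd, _root_.Nat.mod_succ]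
    rw [h1]
    have hi : i % 3 < 3 := Nat.mod_lt _ (by norm_num)
    have hj : j % 3 < 3 := Nat.mod_lt _ (by norm_num)
    generalize i % 3 = u at *
    generalize j % 3 = v at *
    interval_cases u <;> interval_cases v <;> simp_all only [_root_.ne_eq, _root_.Nat.reducePow, _root_.Nat.ofNat_pos, _root_.and_self, _root_.not_true_eq_false, _root_.Nat.one_lt_ofNat, _root_.one_ne_zero, _root_.and_false, _root_.not_false_eq_true, _root_.MulZeroClass.mul_zero, _root_.mul_one, _root_.Nat.reduceMul, _root_.zero_add, _root_.Nat.reduceMod, _root_.OfNat.one_ne_ofNat, _root_.or_false, _root_.Nat.lt_add_one, _root_.OfNat.ofNat_ne_zero, _root_.and_true, _root_.add_zero, _root_.Nat.one_mod, _root_.Nat.reduceAdd, _root_.OfNat.ofNat_ne_one, _root_.or_true]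
  have hB1 : ∀ i j : ℕ, el a b e f p q i j 0 0 ∈ B → el a b e f p q i j 0 0 ≠ 1 →
      ∀ m n : ℕ, el a b e f p q m n 0 0 ∈ B := by
    intro i j h hne
    have h0 : ¬ (i % 3 = 0 ∧ j % 3 = 0) := fun h0 => hne (el_zero D h0.1 h0.2 rfl rfl)
    have h1 := hinv p hpN _ h
    rw [conj_p D] at h1
    have h2 := B.mul_mem (B.pow_mem h i) (B.pow_mem h1 (2 * j))
    rw [el_pow D, el_pow D, D.el_mul] at h2
    have h3 : el a b e f p q 1 0 0 0 ∈ B := by
      rcases hsq i j h0 with h4 | h4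
      · rwa [el_congr D (i' := 1) (j' := 0) (k' := 0) (l' := 0) (by rw [h4]) (by
          rw [show i * j + 2 * j * i = 3 * (i * j) by ring]; simp) (by simp) (by simp)] at h2
      · have h5 := B.pow_mem h2 2
        rw [el_pow D] at h5
        rwa [el_congr D (i' := 1) (j' := 0) (k' := 0) (l' := 0) (by omega) (by
          rw [show 2 * (i * j + 2 * j * i) = 3 * (2 * (i * j)) by ring]; simp) (by simp) (by simp)] at h5
    have h4 := hinv p hpN _ h3
    rw [conj_p D] at h4
    intro m n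
    have h5 := B.mul_mem (B.pow_mem h3 m) (B.pow_mem h4 n)
    rw [el_pow D, el_pow D, D.el_mul] at h5
    rwa [el_congr D (i' := m) (j' := n) (k' := 0) (l' := 0) (by simp) (by simp) (by simp) (by simp)] at h5
  have hB2 : ∀ i j : ℕ, el a b e f p q 0 0 i j ∈ B → el a b e f p q 0 0 i j ≠ 1 →
      ∀ m n : ℕ, el a b e f p q 0 0 m n ∈ B := by
    intro i j h hne
    have h0 : ¬ (i % 3 = 0 ∧ j % 3 = 0) := fun h0 => hne (el_zero D rfl rfl h0.1 h0.2)
    have h1 := hinv q hqN _ h
    rw [conj_q D] at h1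
    have h2 := B.mul_mem (B.pow_mem h i) (B.pow_mem h1 (2 * j))
    rw [el_pow D, el_pow D, D.el_mul] at h2
    have h3 : el a b e f p q 0 0 1 0 ∈ B := by
      rcases hsq i j h0 with h4 | h4
      · rwa [el_congr D (i' := 0) (j' := 0) (k' := 1) (l' := 0) (by simp) (by simp) (by rw [h4]) (by
          rw [show i * j + 2 * j * i = 3 * (i * j) by ring]; simp)] at h2
      · have h5 := B.pow_mem h2 2
        rw [el_pow D] at h5
        rwa [el_congr D (i' := 0) (j' := 0) (k' := 1) (l' := 0) (by simp) (by simp) (by (clear * - h4; omega)) (by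
          rw [show 2 * (i * j + 2 * j * i) = 3 * (2 * (i * j)) by ring]; simp)] at h5
    have h4 := hinv q hqN _ h3
    rw [conj_q D] at h4
    intro m n
    have h5 := B.mul_mem (B.pow_mem h3 m) (B.pow_mem h4 n)
    rw [el_pow D, el_pow D, D.el_mul] at h5
    rwa [el_congr D (i' := 0) (j' := 0) (k' := m) (l' := n) (by simp) (by simp) (by simp) (by simp)] at h5
  -- orders
  have o1 : orderOf (a * b) = 3 := orderOf_eq_prime D.ab3 hab
  have o3 : orderOf (f * e) = 3 := orderOf_eq_prime D.fe3 hfe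
  have o2 : orderOf (p * (a * b) * p⁻¹) = 3 := by rw [conj_order, o1]
  have o4 : orderOf (q * (f * e) * q⁻¹) = 3 := by rw [conj_order, o3]
  have n12 : p * (a * b) * p⁻¹ ∉ zpowers (a * b) := by
    intro h
    obtain ⟨k, hk⟩ := mem_zpowers_iff.1 h
    have h1 := D.px2
    rw [← hk, ← conj_zpow, ← hk, ← zpow_mul] at h1
    have h2 : (a * b) ^ (k * k) = (a * b) ^ (2 : ℤ) := by rw [h1, zpow_ofNat]
    have h3 : (k * k) ≡ 2 [ZMOD 3] := by
      rw [show (3 : ℤ) = ((orderOf (a * b) : ℕ) : ℤ) by rw [o1]; rfl]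
      exact zpow_eq_zpow_iff_modEq.1 h2
    have h5 : k % 3 = 0 ∨ k % 3 = 1 ∨ k % 3 = 2 := by omega
    rcases h5 with h4 | h4 | h4
    all_goals
      unfold Int.ModEq at h3
      rw [Int.mul_emod, h4] at h3
      norm_num at h3
  have n34 : q * (f * e) * q⁻¹ ∉ zpowers (f * e) := by
    intro h
    obtain ⟨k, hk⟩ := mem_zpowers_iff.1 h
    have h1 := D.qx4
    rw [← hk, ← conj_zpow, ← hk, ← zpow_mul] at h1
    have h2 : (f * e) ^ (k * k) = (f * e) ^ (2 : ℤ) := by rw [h1, zpow_ofNat]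
    have h3 : (k * k) ≡ 2 [ZMOD 3] := by
      rw [show (3 : ℤ) = ((orderOf (f * e) : ℕ) : ℤ) by rw [o3]; rfl]
      exact zpow_eq_zpow_iff_modEq.1 h2
    have h5 : k % 3 = 0 ∨ k % 3 = 1 ∨ k % 3 = 2 := by omega
    rcases h5 with h4 | h4 | h4
    all_goals
      unfold Int.ModEq at h3
      rw [Int.mul_emod, h4] at h3
      norm_num at h3
  -- fusion
  have fus : ∀ {x y g : G}, x ∈ D.E → y ∈ D.E → x ∈ B → g * x * g⁻¹ = y → y ∈ B := by
    intro x y g hx hy hxB hg
    have h1 : g⁻¹⁻¹ * x * g⁻¹ = y := by rw [inv_inv, hg]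
    obtain ⟨n, hn, hn2⟩ := Sylow.conj_eq_normalizer_conj_of_mem S x g⁻¹ hx (by rw [h1]; exact hy)
    rw [h1] at hn2
    have h2 := hinv n⁻¹ (inv_mem hn) x hxB
    rw [inv_inv, ← hn2] at h2
    exact h2
  have sup12 : zpowers (a * b) ⊔ zpowers (p * (a * b) * p⁻¹) ≤ D.E ⊓ centralizer ({f} : Set G) := by
    rw [sup_le_iff, zpowers_le, zpowers_le]
    exact ⟨⟨h1E, mem_centralizer_singleton_iff.2 D.comm_f_1.eq.symm⟩,
      ⟨h2E, mem_centralizer_singleton_iff.2 D.comm_f_2.eq.symm⟩⟩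
  have sup34 : zpowers (f * e) ⊔ zpowers (q * (f * e) * q⁻¹) ≤ D.E ⊓ centralizer ({a} : Set G) := by
    rw [sup_le_iff, zpowers_le, zpowers_le]
    exact ⟨⟨h3E, mem_centralizer_singleton_iff.2 D.comm_a_3.eq.symm⟩,
      ⟨h4E, mem_centralizer_singleton_iff.2 D.comm_a_4.eq.symm⟩⟩
  have F1 : el a b e f p q 1 0 0 0 ∈ B → ∃ k l, el a b e f p q 0 0 k l ∈ B ∧ el a b e f p q 0 0 k l ≠ 1 := by
    intro h
    have e1 : el a b e f p q 1 0 0 0 = a * b := by simp only [el, _root_.pow_one, _root_.pow_zero, _root_.mul_one]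
    rw [e1] at h
    have hz : r * (a * b) * r⁻¹ ∈ centralizer ({a} : Set G) := by
      rw [mem_centralizer_singleton_iff]
      have h2 : r * (a * b) * r⁻¹ * (r * f * r⁻¹) = r * f * r⁻¹ * (r * (a * b) * r⁻¹) := by
        calc r * (a * b) * r⁻¹ * (r * f * r⁻¹) = r * ((a * b) * f) * r⁻¹ := by group
          _ = r * (f * (a * b)) * r⁻¹ := by rw [D.comm_f_1.eq]
          _ = r * f * r⁻¹ * (r * (a * b) * r⁻¹) := by group
      rw [hr] at h2
      exact h2
    obtain ⟨g, -, hg⟩ := exists_conj_sup (C := centralizer ({a} : Set G))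
      (mem_centralizer_singleton_iff.2 D.comm_a_3.eq.symm) (mem_centralizer_singleton_iff.2 D.comm_a_4.eq.symm)
      o3 o4 D.c34 n34 h27a hz (by rw [conj_order, o1])
    have hg2 := sup34 hg
    have hy : g * (r * (a * b) * r⁻¹) * g⁻¹ ∈ B :=
      fus (g := g * r) h1E hg2.1 h (by group)
    have hyne : g * (r * (a * b) * r⁻¹) * g⁻¹ ≠ 1 := by
      intro h0
      have h2 := conj_order g (r * (a * b) * r⁻¹)
      rw [h0, conj_order, o1, orderOf_one] at h2
      exact absurd h2 (by norm_num)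
    obtain ⟨i, j, k, l, hel⟩ := hg2.1
    have hcom := mem_centralizer_singleton_iff.1 hg2.2
    rw [hel] at hy hyne hcom
    have h3 : el a b e f p q (2 * i) (2 * j) k l = el a b e f p q i j k l := by
      rw [← conj_a D, ← hcom, mul_inv_cancel_right]
    have h4 : el a b e f p q i j 0 0 = 1 := by
      have h5 : el a b e f p q (2 * i) (2 * j) k l * (el a b e f p q i j k l)⁻¹ = 1 := by rw [h3, mul_inv_cancel]
      rw [D.el_inv, D.el_mul] at h5
      rwa [el_congr D (i' := i) (j' := j) (k' := 0) (l' := 0) (by omega) (by (clear * -; omega)) (by omega) (by omega)] at h5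
    refine ⟨k, l, (hA _ _ _ _ hy).2, fun h5 => hyne ?_⟩
    have h6 : el a b e f p q i j k l = el a b e f p q i j 0 0 * el a b e f p q 0 0 k l := by
      rw [D.el_mul]
      simp
    rw [h6, h4, h5, mul_one]
  have F2 : el a b e f p q 0 0 1 0 ∈ B → ∃ k l, el a b e f p q k l 0 0 ∈ B ∧ el a b e f p q k l 0 0 ≠ 1 := by
    intro h
    have e1 : el a b e f p q 0 0 1 0 = f * e := by simp [el]
    rw [e1] at h
    have hr' : r⁻¹ * a * r = f := by rw [← hr]; group
    have hz : r⁻¹ * (f * e) * r⁻¹⁻¹ ∈ centralizer ({f} : Set G) := by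
      rw [mem_centralizer_singleton_iff, inv_inv]
      have h2 : r⁻¹ * (f * e) * r * (r⁻¹ * a * r) = r⁻¹ * a * r * (r⁻¹ * (f * e) * r) := by
        calc r⁻¹ * (f * e) * r * (r⁻¹ * a * r) = r⁻¹ * ((f * e) * a) * r := by group
          _ = r⁻¹ * (a * (f * e)) * r := by rw [D.comm_a_3.eq]
          _ = r⁻¹ * a * r * (r⁻¹ * (f * e) * r) := by group
      rw [hr'] at h2
      exact h2
    obtain ⟨g, -, hg⟩ := exists_conj_sup (C := centralizer ({f} : Set G))
      (mem_centralizer_singleton_iff.2 D.comm_f_1.eq.symm) (mem_centralizer_singleton_iff.2 D.comm_f_2.eq.symm)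
      o1 o2 D.c12 n12 h27f hz (by rw [conj_order, o3])
    have hg2 := sup12 hg
    have hy : g * (r⁻¹ * (f * e) * r⁻¹⁻¹) * g⁻¹ ∈ B :=
      fus (g := g * r⁻¹) h3E hg2.1 h (by group)
    have hyne : g * (r⁻¹ * (f * e) * r⁻¹⁻¹) * g⁻¹ ≠ 1 := by
      intro h0
      have h2 := conj_order g (r⁻¹ * (f * e) * r⁻¹⁻¹)
      rw [h0, conj_order, o3, orderOf_one] at h2
      exact absurd h2 (by norm_num)
    obtain ⟨i, j, k, l, hel⟩ := hg2.1
    have hcom := mem_centralizer_singleton_iff.1 hg2.2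
    rw [hel] at hy hyne hcom
    have h3 : el a b e f p q i j (2 * k) (2 * l) = el a b e f p q i j k l := by
      rw [← conj_f D, ← hcom, mul_inv_cancel_right]
    have h4 : el a b e f p q 0 0 k l = 1 := by
      have h5 : el a b e f p q i j (2 * k) (2 * l) * (el a b e f p q i j k l)⁻¹ = 1 := by rw [h3, mul_inv_cancel]
      rw [D.el_inv, D.el_mul] at h5
      rwa [el_congr D (i' := 0) (j' := 0) (k' := k) (l' := l) (by omega) (by omega) (by omega) (by omega)] at h5
    refine ⟨i, j, (hA _ _ _ _ hy).1, fun h5 => hyne ?_⟩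
    have h6 : el a b e f p q i j k l = el a b e f p q i j 0 0 * el a b e f p q 0 0 k l := by
      rw [D.el_mul]
      simp
    rw [h6, h4, h5, mul_one]
  -- the conclusion
  by_cases hB0 : B = ⊥
  · exact Or.inl hB0
  right
  obtain ⟨y, hy, hy1⟩ : ∃ y ∈ B, y ≠ 1 := by
    by_contra hcon
    push Not at hcon
    exact hB0 ((eq_bot_iff_forall B).2 hcon)
  have hall : (∀ m n : ℕ, el a b e f p q m n 0 0 ∈ B) ∧ (∀ m n : ℕ, el a b e f p q 0 0 m n ∈ B) := by
    obtain ⟨i, j, k, l, rfl⟩ := hBS hy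
    obtain ⟨hu, hv⟩ := hA _ _ _ _ hy
    by_cases h0 : el a b e f p q i j 0 0 = 1
    · have h1 : el a b e f p q 0 0 k l ≠ 1 := by
        intro h1
        apply hy1
        have h6 : el a b e f p q i j k l = el a b e f p q i j 0 0 * el a b e f p q 0 0 k l := by
          rw [D.el_mul]
          simp
        rw [h6, h0, h1, mul_one]
      have h2 := hB2 _ _ hv h1
      obtain ⟨m, n, h3, h4⟩ := F2 (h2 1 0)
      exact ⟨hB1 _ _ h3 h4, h2⟩
    · have h2 := hB1 _ _ hu h0
      obtain ⟨m, n, h3, h4⟩ := F1 (h2 1 0)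
      exact ⟨h2, hB2 _ _ h3 h4⟩
  rintro _ ⟨i, j, k, l, rfl⟩ -
  have h6 : el a b e f p q i j k l = el a b e f p q i j 0 0 * el a b e f p q 0 0 k l := by
    rw [D.el_mul]
    simp
  rw [h6]
  exact B.mul_mem (hall.1 i j) (hall.2 k l)

end

section concrete

open Cfsg.Spor Cfsg.Spor.ON Cfsg.Agent.R04.ONThree Cfsg.Agent.KFacts.ON Cfsg.Agent.SporadicB.ON45Word

theorem hs : IsSimpleGroup ON := Cent.hON.1

theorem conj_a_f : IsConj (on .f) (on .a) := (OneClass.one_class (data hs).aa a_ne).symm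

theorem card_cent_a : Nat.card (centralizer ({on .a} : Set ON)) = 161280 := by
  obtain ⟨r, hr⟩ := isConj_iff.1 conj_a_f
  have h : centralizer ({on .a} : Set ON) = (centralizer ({on .f} : Set ON)).map (MulAut.conj r).toMonoidHom := by
    ext x
    rw [mem_centralizer_singleton_iff, ← hr]
    constructor
    · intro hx
      refine ⟨r⁻¹ * x * r, mem_centralizer_singleton_iff.2 ?_, ?_⟩
      · calc r⁻¹ * x * r * on .f = r⁻¹ * (x * (r * on .f * r⁻¹)) * r := by group
          _ = r⁻¹ * (r * on .f * r⁻¹ * x) * r := by rw [hx]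
          _ = on .f * (r⁻¹ * x * r) := by group
      · show r * (r⁻¹ * x * r) * r⁻¹ = x
        group
    · rintro ⟨y, hy, rfl⟩
      have hy1 := mem_centralizer_singleton_iff.1 hy
      show r * y * r⁻¹ * (r * on .f * r⁻¹) = r * on .f * r⁻¹ * (r * y * r⁻¹)
      calc r * y * r⁻¹ * (r * on .f * r⁻¹) = r * (y * on .f) * r⁻¹ := by group
        _ = r * (on .f * y) * r⁻¹ := by rw [hy1]
        _ = r * on .f * r⁻¹ * (r * y * r⁻¹) := by group
  rw [h, card_map_of_injective (MulAut.conj r).injective, Cent.card_cent]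

/-- **the row `(O'N, 3)`** -/
theorem abIrr' : AbIrr 3 ON := by
  have hc : Nat.card ON = 460815505920 := Cent.hON.2
  have hfin : Finite ON := Nat.finite_of_card_ne_zero (by rw [hc]; norm_num)
  obtain ⟨r, hr⟩ := isConj_iff.1 conj_a_f
  exact abIrr_of_data (data hs) ab_ne fe_ne a_ne f_ne (_root_.Cfsg.Agent.R04.ONThree.inv hs) (by rw [hc]; norm_num)
    (by rw [card_cent_a]; norm_num) (by rw [Cent.card_cent]; norm_num) hr

/-- **the row `(O'N, 3)`** -/
theorem abIrr {G : Type*} [Group G] (h : Cfsg.Spor.IsoON G) : AbIrr 3 G :=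
  AbIrr.of_mulEquiv h.some.symm abIrr'

end concrete

end Cfsg.Agent.H800.Sp.ON

private theorem dce_d4222c9fd859 : _root_.True := by
  try have : _root_.True := by simp only [_root_.Cfsg.Agent.R04.ThreeAbs.Data.E.congr_simp]
  exact _root_.True.intro
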