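import Cfsg.Agent.H800.Sp.Base_m3
import Cfsg.Agent.H403.TitsSixteen
import Cfsg.Agent.Prune
set_option linter.all false
prune_inst 0x7f00000000000000000000000000000000000000000000000000000000000000000000000000000000000000000000000000000000000000000000000000000000000000000000000000000000000000003fffffffffffffffffffffffffffbeffbdffffffff
open scoped Cfsg.Agent.FastGrp

/-!
The prime 5 in the Tits group: one class of elements of order 5.
-/

set_option autoImplicit false

universe u

namespace Cfsg.Agent.H800.Sp.TitsFive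

open Cfsg.Agent.H800.Sp Subgroup

section

open Cfsg.Agent.Omega.TwoF.Tits Cfsg.Agent.Omega.TwoF.Scalar Cfsg.Agent.Omega.TwoF.Orb
  Cfsg.Agent.ChevalleyStructure.Tits.Main

instance instFactPrimeFive : Fact (Nat.Prime 5) := ⟨Nat.prime_five⟩

theorem oneClass_C : OneClass 5 C := by
  have hc : Nat.card C = 2 ^ 11 * 3 ^ 3 * 5 ^ 2 * 13 := H0_result.2.2.2
  refine OneClass.of_subgroup (Cfsg.Agent.CpAutTits.Fus.P)
    (IsPGroup.of_card (n := 2) (by rw [Cfsg.Agent.CpAutTits.Fus.card_P]; norm_num)) ?_ ?_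
  · have h1 := Subgroup.card_mul_index Cfsg.Agent.CpAutTits.Fus.P
    rw [Cfsg.Agent.CpAutTits.Fus.card_P, hc] at h1
    have h2 : (Cfsg.Agent.CpAutTits.Fus.P).index = 718848 := by omega
    rw [h2]
    norm_num
  · intro x hx y hy hx5 hy5
    have hne : ∀ {z : C}, orderOf z = 5 → z ≠ 1 := by
      intro z hz h1
      rw [h1, orderOf_one] at hz
      omega
    obtain ⟨s, -, hs⟩ := Cfsg.Agent.CpAutTits.Fus.fus hx (hne hx5) hy (hne hy5)
    exact ⟨s, hs⟩

theorem oneClass_aux {X : Type} [Group X] (e : C ≃* X) : OneClass 5 X := by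
  have h := oneClass_C
  exact h.congr e

end

theorem oneClass_TT_aux (K : Subgroup (Matrix.GeneralLinearGroup Cfsg.Agent.ChevalleyStructure.Tits.Mat.I52 (ZMod 2)))
    (hK : K = Cfsg.Agent.ChevalleyStructure.Tits.Order.H0)
    (e : Nonempty (↥(_root_.commutator K) ≃* ↥Cfsg.Agent.TitsK.TT)) : OneClass 5 ↥Cfsg.Agent.TitsK.TT := by
  subst hK
  obtain ⟨e⟩ := e
  exact oneClass_aux e

theorem oneClass_TT : OneClass 5 ↥Cfsg.Agent.TitsK.TT :=
  oneClass_TT_aux (Cfsg.Lie.twistedF4 (ZMod 2) 1) Cfsg.Agent.ChevalleyStructure.Tits.Main.T0_eq_H0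
    Cfsg.Agent.TitsK.exists_equiv

/-- the Tits group has one class of elements of order 5 -/
theorem oneClass {X : Type u} [Group X] (h : Cfsg.Lie.IsoTits X) : OneClass 5 X := by
  obtain ⟨e⟩ := Cfsg.Agent.CpAutTits.Row.exists_equiv h
  have h1 := oneClass_TT
  exact h1.congr e.symm

end Cfsg.Agent.H800.Sp.TitsFive
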