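import Cfsg.Agent.H800.Sp.NotAb
import Cfsg.Agent.H573.Spor.BThree
import Cfsg.Agent.H573.Spor.CoOneFive
import Cfsg.Agent.H573.Spor.CoThree
import Cfsg.Agent.H573.Spor.ConwayFive
import Cfsg.Agent.H573.Spor.FiSeven
import Cfsg.Agent.H573.Spor.FiTwentyTwo_mg
import Cfsg.Agent.H573.Spor.HNFive
import Cfsg.Agent.H573.Spor.HNThree
import Cfsg.Agent.H573.Spor.He
import Cfsg.Agent.H573.Spor.J2
import Cfsg.Agent.H573.Spor.LyFive_m3
import Cfsg.Agent.H573.Spor.Lift
import Cfsg.Agent.H573.Spor.MSeven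
import Cfsg.Agent.H573.Spor.BFive
import Cfsg.Agent.H573.Spor.Mathieu
import Cfsg.Agent.H573.Spor.McLThree
import Cfsg.Agent.H573.Spor.Ru
import Cfsg.Agent.H573.Spor.Suz
import Cfsg.Agent.Prune
set_option linter.all false
prune_inst 0x7f00000000000000000000000000000000000000000000000000000000000000000000000000000000000000000000000000000000000000000000000000000000000000000000000000000000000000003fffffffffffffffffffffffffffbeffbdffffffff

/-!
# Sporadic groups with nonabelian Sylow `p`-subgroups: the rows which follow from `¬ PCent p G` (helper573)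
-/

set_option autoImplicit false

universe u

namespace Cfsg.Agent.H800.Sp.NotAbRows

open Cfsg.Agent.H800.Sp Cfsg.Agent.H573 Cfsg.Spor

instance instThree : Fact (Nat.Prime 3) := ⟨Nat.prime_three⟩
instance instFive : Fact (Nat.Prime 5) := ⟨Nat.prime_five⟩
instance instSeven : Fact (Nat.Prime 7) := ⟨by norm_num⟩
instance instEleven : Fact (Nat.Prime 11) := ⟨by norm_num⟩

variable {G : Type u} [Group G] [Finite G]

theorem m12_3 (h : IsoM12 G) : NotAb 3 G := notAb_of_not_pcent (Spor.m12_3 h)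
theorem m24_3 (h : IsoM24 G) : NotAb 3 G := notAb_of_not_pcent (Spor.m24_3 h)
theorem j2_3 (h : IsoJ2 G) : NotAb 3 G := notAb_of_not_pcent (Spor.j2_3 h)
theorem j3_3 (h : IsoJ3 G) : NotAb 3 G := notAb_of_not_pcent (Spor.j3_3 h)
theorem mcl_3 (h : IsoMcL G) : NotAb 3 G := notAb_of_not_pcent (Spor.mcl_3 h)
theorem mcl_5 (h : IsoMcL G) : NotAb 5 G := notAb_of_not_pcent (Spor.mcl_5 h)
theorem hs_5 (h : IsoHS G) : NotAb 5 G := notAb_of_not_pcent (Spor.hs_5 h)
theorem co3_3 (h : IsoCo3 G) : NotAb 3 G := notAb_of_not_pcent (Spor.co3_3 h)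
theorem co3_5 (h : IsoCo3 G) : NotAb 5 G := notAb_of_not_pcent (Spor.co3_5 h)
theorem co2_3 (h : IsoCo2 G) : NotAb 3 G := notAb_of_not_pcent (Spor.co2_3 h)
theorem co2_5 (h : IsoCo2 G) : NotAb 5 G := notAb_of_not_pcent (Spor.co2_5 h)
theorem co1_3 (h : IsoCo1 G) : NotAb 3 G := notAb_of_not_pcent (Spor.co1_3 h)
theorem co1_5 (h : IsoCo1 G) : NotAb 5 G := notAb_of_not_pcent (Spor.co1_5 h)
theorem suz_3 (h : IsoSuz G) : NotAb 3 G := notAb_of_not_pcent (Spor.suz_3 h)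
theorem he_3 (h : IsoHe G) : NotAb 3 G := notAb_of_not_pcent (Spor.he_3 h)
theorem he_7 (h : IsoHe G) : NotAb 7 G := notAb_of_not_pcent (Spor.he_7 h)
theorem ru_5 (h : IsoRu G) : NotAb 5 G := notAb_of_not_pcent (Spor.ru_5 h)
theorem ly_3 (h : IsoLy G) : NotAb 3 G := notAb_of_not_pcent (Spor.ly_3 h)
theorem ly_5 (h : IsoLy G) : NotAb 5 G := notAb_of_not_pcent (Spor.ly_5 h)
theorem fi22_3 (h : IsoFi22 G) : NotAb 3 G := notAb_of_not_pcent (Spor.fi22_3 h)
theorem fi23_3 (h : IsoFi23 G) : NotAb 3 G := notAb_of_not_pcent (Spor.fi23_3 h)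
theorem fi24_3 (h : IsoFi24' G) : NotAb 3 G := notAb_of_not_pcent (Spor.fi24_3 h)
theorem fi24_7 (h : IsoFi24' G) : NotAb 7 G := notAb_of_not_pcent (Spor.fi24_7 h)
theorem hn_3 (h : IsoHN G) : NotAb 3 G := notAb_of_not_pcent (Spor.hn_3 h)
theorem hn_5 (h : IsoHN G) : NotAb 5 G := notAb_of_not_pcent (Spor.hn_5 h)
theorem th_3 (h : IsoTh G) : NotAb 3 G := notAb_of_not_pcent (Spor.th_3 h)
theorem b_3 (h : IsoB G) : NotAb 3 G := notAb_of_not_pcent (Spor.b_3 h)
theorem m_3 (h : IsoM G) : NotAb 3 G := notAb_of_not_pcent (Spor.m_3 h)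
theorem m_5 (h : IsoM G) : NotAb 5 G := notAb_of_not_pcent (Spor.m_5 h)
theorem m_7 (h : IsoM G) : NotAb 7 G := notAb_of_not_pcent (Spor.m_7 h)

end Cfsg.Agent.H800.Sp.NotAbRows
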