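import Cfsg.Agent.H800.Sp.NotAbA
import Cfsg.Agent.H800.Sp.B
import Cfsg.Agent.H761.TitsFull
import Cfsg.Agent.H761.RuFull
import Cfsg.Agent.H502.ThFiveP
import Cfsg.Agent.H49.JFourEleven
import Cfsg.Agent.S1711
import Cfsg.Agent.S1693
import Cfsg.Agent.S0364
import Cfsg.Agent.Prune
set_option linter.all false
prune_inst 0x7f00000000000000000000000000000000000000000000000000000000000000000000000000000000000000000000000000000000000000000000000000000000000000000000000000000000000000003fffffffffffffffffffffffffffbeffbdffffffff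
open scoped Cfsg.Agent.FastGrp

/-!
# Sporadic groups with nonabelian Sylow `p`-subgroups: Tits group and Ru at 3, Th and B at 5, J4 at 3 and 11, O'N at 7
-/

set_option autoImplicit false
set_option maxRecDepth 100000

universe u

namespace Cfsg.Agent.H800.Sp.NotAbRows

open Subgroup Cfsg Cfsg.Agent.H800.Sp
open scoped commutatorElement

/-! ### The Tits group at 3 -/

section

open Cfsg.Agent.H68.TitsMul Cfsg.Agent.H51.Mult Cfsg.Agent.H51.Crit Cfsg.Agent.H51.Tools
open Cfsg.Agent.ChevalleyStructure.Tits.Mat Cfsg.Agent.ChevalleyStructure.Tits.Order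

theorem tits_H0 : NotAb 3 (commutator H0) := by
  have hfin : Finite (commutator H0) := inferInstance
  have hx : E x3 ^ 3 = 1 := by rw [← E_rep, three_e, E_nil]
  have hy : E y3 ^ 3 = 1 := by rw [← E_rep, three_f, E_nil]
  have hc : ⁅E x3, E y3⁆ = E w3 ^ 8 := by
    rw [mul_comm_of_comm, ← E_append, three_b, E_append, E_append, E_rep]
  have hcx : E w3 ^ 8 * E x3 = E x3 * E w3 ^ 8 := by rw [← E_rep, ← E_append, three_c, E_append]
  have hcy : E w3 ^ 8 * E y3 = E y3 * E w3 ^ 8 := by rw [← E_rep, ← E_append, three_d, E_append]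
  have hc1 : E w3 ^ 8 ≠ 1 := by rw [← E_rep, ← E_nil]; exact three_i
  refine notAb_of_extra (x := E x3) (y := E y3) hx hy ?_ ?_ ?_
  · rw [hc]; exact hcx
  · rw [hc]; exact hcy
  · rw [hc]; exact hc1

theorem tits_aux (K : Subgroup (GL I52 (ZMod 2))) (hK : K = H0) : NotAb 3 (commutator K) := by
  subst hK
  exact tits_H0

theorem tits_3' : NotAb 3 Cfsg.Lie.TitsGroup := tits_aux _ Cfsg.Agent.ChevalleyStructure.Tits.Main.T0_eq_H0

theorem of_equiv_subgroup {G : Type u} [Group G] {X : Type*} [Group X] (K : Subgroup X)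
    (h : Nonempty (G ≃* K)) (hK : NotAb 3 K) : NotAb 3 G := by
  obtain ⟨e⟩ := h
  exact NotAb.of_mulEquiv e.symm hK

theorem tits_3 {G : Type u} [Group G] (h : Cfsg.Lie.IsoTits G) : NotAb 3 G :=
  of_equiv_subgroup (commutator ↥(Cfsg.Lie.twistedF4 (ZMod 2) 1)) h tits_3'

end

/-! ### The Rudvalis group at 3 -/

section

open Cfsg.Agent.SporadicB Cfsg.Agent.RuD.Letters Cfsg.Agent.SporRec.TCUpperCert
open Cfsg.Agent.KFacts.Ru Cfsg.Agent.KFacts.Ru.CentEng Cfsg.Agent.H761.RuFull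

theorem ru_H3 : NotAb 3 RuOrder.H := by
  have := finite_H
  refine notAb_of_extra (x := wprod ml x3) (y := wprod ml y3) (pow3 k3x) (pow3 k3y) ?_ ?_ ?_
  · rw [comm_eq k3c]; exact eq2 k3zx
  · rw [comm_eq k3c]; exact eq2 k3zy
  · rw [comm_eq k3c]; exact ne_one k3ne

theorem ru_3 {G : Type u} [Group G] (h : Cfsg.Spor.IsoRu G) : NotAb 3 G :=
  NotAb.of_mulEquiv (h.some.trans RuLat.Main.equiv).symm ru_H3

end

/-! ### The Thompson group and the Baby Monster at 5 -/

section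

open Cfsg.Agent.Th Cfsg.Agent.Th.Gen248 Cfsg.Agent.Th.Hom248 Cfsg.Agent.H502.ThFiveP
  Cfsg.Agent.H502.ThFivePCheck

theorem k_z1 : Nat.beq (Words248.expd Cfsg.Agent.H502.ThFivePData.mz) Words248.idm = false := by decide +kernel

theorem th_5' : NotAb 5 Cfsg.Spor.Th := by
  have hT := Main1700.isTh
  have hfin : Finite Cfsg.Spor.Th := Nat.finite_of_card_ne_zero (by rw [hT.2]; norm_num)
  exact notAb_of_heis x5 y5 z5 xz yz xy (rz.ne_of Rep.one k_z1)

end

theorem th_5 {G : Type u} [Group G] (h : Cfsg.Spor.IsoTh G) : NotAb 5 G := NotAb.of_mulEquiv h.some.symm th_5'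

theorem b_5' : NotAb 5 Cfsg.Spor.BabyMonster := by
  have hfin : Finite Cfsg.Spor.BabyMonster :=
    Nat.finite_of_card_ne_zero (by rw [Cfsg.Agent.BM.KHAll.card_B]; norm_num)
  obtain ⟨T, hT⟩ := Cfsg.Agent.H800.Sp.B.exists_th_B
  exact (th_5 hT).of_sub

theorem b_5 {G : Type u} [Group G] (h : Cfsg.Spor.IsoB G) : NotAb 5 G := NotAb.of_mulEquiv h.some.symm b_5'

/-! ### `J4` at 3 and 11 -/

theorem j4_3 {G : Type u} [Group G] (h : Cfsg.Spor.IsoJ4 G) : NotAb 3 G := by
  refine NotAb.of_mulEquiv h.some.symm ?_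
  have hJ : Finite Cfsg.Spor.J4 := Cfsg.Agent.H49.JFourEleven.finite_J4
  have hf : Finite Cfsg.M24 := Nat.finite_of_card_ne_zero (by rw [S0364.result]; norm_num)
  exact (m24_3 (G := _) S1711.result).of_sub

section

open Cfsg.Agent.Lib.F2MatGroup Cfsg.Agent.J4.Rep112 Cfsg.Agent.J4.Final Cfsg.Agent.H51.Mult
open Cfsg.Agent.H49.Form Cfsg.Agent.H49.JFourEleven

theorem j4_11' : NotAb 11 Cfsg.Spor.J4 := by
  have hfin := finite_J4
  obtain ⟨he, hn⟩ := facts
  generalize runG ws gens = L at he hn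
  have h1 := he _ (show ([3, 3, 3, 3, 3, 3, 3, 3, 3, 3, 3], []) ∈ es by simp [es])
  have h2 := he _ (show ([2, 2, 2, 2, 2, 2, 2, 2, 2, 2, 2], []) ∈ es by simp [es])
  have h4 := he _ (show ([1, 3], []) ∈ es by simp [es])
  have h5 := he _ (show ([0, 2], []) ∈ es by simp [es])
  have h6 := he _ (show ([3, 2, 1, 0, 3], [3, 3, 2, 1, 0]) ∈ es by simp [es])
  have h7 := he _ (show ([3, 2, 1, 0, 2], [2, 3, 2, 1, 0]) ∈ es by simp [es])
  have h10 := hn _ (show ([3, 2], [2, 3]) ∈ ns by simp [ns])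
  simp only [evG_cons, evG_nil, mul_one] at h1 h2 h4 h5 h6 h7 h10
  generalize getG L 3 = x at *
  generalize getG L 2 = y at *
  have hx : getG L 1 = x⁻¹ := eq_inv_of_mul_eq_one_left h4
  have hy : getG L 0 = y⁻¹ := eq_inv_of_mul_eq_one_left h5
  rw [hx] at h6 h7
  rw [hy] at h6 h7
  have g1 : x ^ 11 = 1 := by rw [← h1]; simp only [pow_succ', pow_zero, mul_one]
  have g2 : y ^ 11 = 1 := by rw [← h2]; simp only [pow_succ', pow_zero, mul_one]
  have g3 : ⁅x, y⁆ * x = x * ⁅x, y⁆ := by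
    rw [commutatorElement_def]; simpa only [mul_assoc] using h6
  have g4 : ⁅x, y⁆ * y = y * ⁅x, y⁆ := by
    rw [commutatorElement_def]; simpa only [mul_assoc] using h7
  have g5 : ⁅x, y⁆ ≠ 1 := by
    rw [Ne, commutatorElement_eq_one_iff_mul_comm]; exact h10
  exact notAb_of_extra g1 g2 g3 g4 g5

end

theorem j4_11 {G : Type u} [Group G] (h : Cfsg.Spor.IsoJ4 G) : NotAb 11 G := NotAb.of_mulEquiv h.some.symm j4_11'

/-! ### `O'N` at 7 -/

section

/-- the elementary matrices -/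
def mX : Matrix.SpecialLinearGroup (Fin 3) (ZMod 7) := ⟨!![1, 1, 0; 0, 1, 0; 0, 0, 1], by simp [Matrix.det_fin_three]⟩
/-- the elementary matrices -/
def mY : Matrix.SpecialLinearGroup (Fin 3) (ZMod 7) := ⟨!![1, 0, 0; 0, 1, 1; 0, 0, 1], by simp [Matrix.det_fin_three]⟩
/-- the elementary matrices -/
def mZ : Matrix.SpecialLinearGroup (Fin 3) (ZMod 7) := ⟨!![1, 0, 1; 0, 1, 0; 0, 0, 1], by simp [Matrix.det_fin_three]⟩
/-- the elementary matrices -/
def mW : Matrix.SpecialLinearGroup (Fin 3) (ZMod 7) := ⟨!![1, 0, 0; 0, 1, 0; 1, 0, 1], by simp [Matrix.det_fin_three]⟩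

theorem hX : mX ^ 7 = 1 := Subtype.ext (by rw [Matrix.SpecialLinearGroup.coe_pow]; decide +kernel)
theorem hY : mY ^ 7 = 1 := Subtype.ext (by rw [Matrix.SpecialLinearGroup.coe_pow]; decide +kernel)
theorem hZ : mZ ^ 7 = 1 := Subtype.ext (by rw [Matrix.SpecialLinearGroup.coe_pow]; decide +kernel)
theorem hXZ : mX * mZ = mZ * mX := Subtype.ext (by decide +kernel)
theorem hYZ : mY * mZ = mZ * mY := Subtype.ext (by decide +kernel)
theorem hXY : mX * mY = mY * mX * mZ := Subtype.ext (by decide +kernel)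
theorem hZW : mZ * mW ≠ mW * mZ := by
  intro h
  have h1 : (mZ * mW).1 0 0 = (mW * mZ).1 0 0 := by rw [h]
  revert h1
  decide +kernel

/-- `PSL₃(7)` -/
theorem psl_7 : NotAb 7 (Matrix.ProjectiveSpecialLinearGroup (Fin 3) (ZMod 7)) := by
  have h7 : Fact (Nat.Prime 7) := ⟨by norm_num⟩
  have hfin : Finite (Matrix.SpecialLinearGroup (Fin 3) (ZMod 7)) := inferInstance
  let π := QuotientGroup.mk' (center (Matrix.SpecialLinearGroup (Fin 3) (ZMod 7)))
  refine notAb_of_heis (G := Matrix.ProjectiveSpecialLinearGroup (Fin 3) (ZMod 7)) (x := π mX) (y := π mY) (z := π mZ)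
    ?_ ?_ ?_ ?_ ?_ ?_ ?_
  · rw [← map_pow, hX, map_one]
  · rw [← map_pow, hY, map_one]
  · rw [← map_pow, hZ, map_one]
  · rw [← map_mul, hXZ, map_mul]
  · rw [← map_mul, hYZ, map_mul]
  · rw [← map_mul, hXY, map_mul, map_mul]
  · intro h
    have h1 : mZ ∈ center (Matrix.SpecialLinearGroup (Fin 3) (ZMod 7)) := (QuotientGroup.eq_one_iff mZ).1 h
    exact hZW ((mem_center_iff.1 h1 mW).symm)

end

theorem on_7' : NotAb 7 Cfsg.Spor.ON := by
  obtain ⟨N, _, -, ⟨e⟩⟩ := S1693.result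
  have hfin : Finite Cfsg.Spor.ON := Nat.finite_of_card_ne_zero (by rw [Cfsg.Agent.S1699.result.2]; norm_num)
  exact (NotAb.of_mulEquiv e.symm psl_7).of_sub.of_sub

theorem on_7 {G : Type u} [Group G] (h : Cfsg.Spor.IsoON G) : NotAb 7 G := NotAb.of_mulEquiv h.some.symm on_7'

end Cfsg.Agent.H800.Sp.NotAbRows
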